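import Cfsg.Agent.Lib.GWDihedral.Consumers.Basic
import Cfsg.Agent.S0218
import Mathlib.GroupTheory.IsPerfect

/-!
# Central covers of simple groups with a single involution in the Sylow subgroup
-/

set_option autoImplicit false
set_option linter.style.haveILetI false
set_option linter.unusedSectionVars false

namespace CfsgLib.GWDihedral.Consumers

open Subgroup CfsgLib.Involution
open scoped commutatorElement

universe u

variable {G : Type u} [Group G] [Finite G]

/-- With quaternion Sylow 2-subgroups commuting involutions are equal. -/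
theorem invol_eq_of_quaternion (hQ : ∀ P : Sylow 2 G, ∃ n : ℕ, Nonempty (↥(P : Subgroup G) ≃* QuaternionGroup (2 ^ (n + 1))))
    {x y : G} (hx : orderOf x = 2) (hy : orderOf y = 2) (hxy : Commute x y) : x = y := by
  haveI : Fact (Nat.Prime 2) := ⟨Nat.prime_two⟩
  have hp : IsPGroup 2 ↥(zpowers x ⊔ zpowers y) := by
    refine IsPGroup.to_sup_of_normal_right' (IsPGroup.of_card (n := 1) (by rw [Nat.card_zpowers, hx, pow_one]))
      (IsPGroup.of_card (n := 1) (by rw [Nat.card_zpowers, hy, pow_one])) ?_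
    refine le_trans (fun g hg => mem_centralizer_iff.2 fun v hv => ?_) (centralizer_le_normalizer _)
    obtain ⟨i, rfl⟩ := mem_zpowers_iff.1 hg
    obtain ⟨j, rfl⟩ := mem_zpowers_iff.1 hv
    exact ((hxy.zpow_left i).zpow_right j).symm.eq
  obtain ⟨P, hP⟩ := hp.exists_le_sylow
  obtain ⟨n, ⟨e⟩⟩ := hQ P
  obtain ⟨hsub, -⟩ := Nat.card_eq_one_iff_unique.1 (Cfsg.Agent.S0218.result n)
  have h := congrArg Subtype.val (e.injective (congrArg Subtype.val (hsub.elim
    ⟨e ⟨x, hP (mem_sup_left (mem_zpowers x))⟩, by rw [MulEquiv.orderOf_eq, Subgroup.orderOf_mk, hx]⟩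
    ⟨e ⟨y, hP (mem_sup_right (mem_zpowers y))⟩, by rw [MulEquiv.orderOf_eq, Subgroup.orderOf_mk, hy]⟩)))
  exact h

/-- A cover of order two of a simple group is perfect if commuting involutions are equal. -/
theorem perfect_of_cover {Y Q : Type u} [Group Y] [Finite Y] [Group Q] [IsSimpleGroup Q]
    (hna : ¬ IsMulCommutative Q) (hev : 2 ∣ Nat.card Q)
    (hinv : ∀ x y : Y, orderOf x = 2 → orderOf y = 2 → Commute x y → x = y)
    (f : Y →* Q) (hf : Function.Surjective f) (hc : f.ker ≤ center Y) (h2 : Nat.card f.ker = 2) :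
    commutator Y = ⊤ := by
  classical
  haveI : Fact (Nat.Prime 2) := ⟨Nat.prime_two⟩
  have hmap : (commutator Y).map f = ⊤ := by
    rw [_root_.commutator_def, map_commutator, ← MonoidHom.range_eq_map, MonoidHom.range_eq_top.2 hf]
    rcases (inferInstance : (commutator Q).Normal).eq_bot_or_eq_top with h | h
    · exact absurd ⟨⟨fun x y => mem_center_iff.1 ((commutator_eq_bot_iff_center_eq_top _).1 h ▸ mem_top y) x⟩⟩ hna
    · exact h
  obtain ⟨c, hc2⟩ := exists_prime_orderOf_dvd_card' (G := f.ker) 2 (by rw [h2])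
  have hco : orderOf (c : Y) = 2 := by rw [Subgroup.orderOf_coe, hc2]
  -- the kernel meets the derived subgroup
  have hcD : (c : Y) ∈ commutator Y := by
    have h2D : 2 ∣ Nat.card (commutator Y) := by
      refine hev.trans ?_
      rw [← Nat.card_congr (topEquiv (G := Q)).toEquiv, ← hmap]
      exact card_map_dvd _ f
    obtain ⟨t, ht⟩ := exists_prime_orderOf_dvd_card' (G := commutator Y) 2 h2D
    rw [← hinv (t : Y) c (by rw [Subgroup.orderOf_coe, ht]) hco (mem_center_iff.1 (hc c.2) t)]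
    exact t.2
  have hker : f.ker ≤ commutator Y := fun x hx => by
    haveI : Fact (Nat.card f.ker).Prime := ⟨by rw [h2]; exact Nat.prime_two⟩
    have hc1 : c ≠ 1 := fun h => by rw [h, orderOf_one] at hc2; omega
    obtain ⟨j, hj⟩ := mem_zpowers_of_prime_card (g := c) (g' := ⟨x, hx⟩) rfl hc1
    rw [← show ((c : Y)) ^ j = x from congrArg Subtype.val hj]
    exact (commutator Y).zpow_mem hcD j
  rw [eq_top_iff]
  intro x _
  obtain ⟨d, hd, hdx⟩ := hmap.ge (mem_top (f x))
  rw [← mul_inv_cancel_left d x]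
  exact mul_mem hd (hker (by rw [MonoidHom.mem_ker, map_mul, map_inv, hdx, inv_mul_cancel]))

/-- What centralises a perfect subgroup modulo a central subgroup centralises it. -/
theorem commute_of_perfect {L : Subgroup G} (hL : commutator L = ⊤) {c : G}
    (h : ∀ l ∈ L, ∀ g : G, c⁻¹ * (l * c * l⁻¹) * g = g * (c⁻¹ * (l * c * l⁻¹))) :
    ∀ l ∈ L, Commute l c := by
  let χ : L →* center G :=
    { toFun := fun l => ⟨c⁻¹ * ((l : G) * c * (l : G)⁻¹), mem_center_iff.2 fun g => (h l l.2 g).symm⟩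
      map_one' := Subtype.ext (by simp)
      map_mul' := fun l m => Subtype.ext (by
        show c⁻¹ * ((l : G) * m * c * ((l : G) * m)⁻¹) =
          c⁻¹ * ((l : G) * c * (l : G)⁻¹) * (c⁻¹ * ((m : G) * c * (m : G)⁻¹))
        have e1 := h m m.2 ((l : G)⁻¹)
        calc c⁻¹ * ((l : G) * m * c * ((l : G) * m)⁻¹)
            = c⁻¹ * (l : G) * c * ((c⁻¹ * ((m : G) * c * (m : G)⁻¹)) * (l : G)⁻¹) := by group
          _ = c⁻¹ * (l : G) * c * ((l : G)⁻¹ * (c⁻¹ * ((m : G) * c * (m : G)⁻¹))) := by rw [e1]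
          _ = c⁻¹ * ((l : G) * c * (l : G)⁻¹) * (c⁻¹ * ((m : G) * c * (m : G)⁻¹)) := by group) }
  intro l hl
  have h1 : χ ⟨l, hl⟩ = 1 := by
    have hle : (⊤ : Subgroup L) ≤ χ.ker := by
      rw [← hL, _root_.commutator_def, commutator_le]
      intro x _ y _
      rw [MonoidHom.mem_ker, map_commutatorElement, commutatorElement_eq_one_iff_mul_comm]
      exact Subtype.ext (mem_center_iff.1 (χ y).2 (χ x))
    exact hle (mem_top _)
  have h2 : c⁻¹ * (l * c * l⁻¹) = 1 := congrArg Subtype.val h1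
  have h3 : l * c * l⁻¹ = c := (inv_mul_eq_one.1 h2).symm
  exact mul_inv_eq_iff_eq_mul.1 h3

end CfsgLib.GWDihedral.Consumers
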