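import Cfsg.Agent.Lib.GWDihedral.Consumers.QuasiDihedral
import Cfsg.Agent.Lib.GWDihedral.LTwoField
import Cfsg.Agent.Lib.FusionSystem.SimpleViaSylowImage
import Cfsg.Agent.S0261
import Cfsg.Agent.S1213

/-!
# The derived subgroup of an involution centraliser modulo its odd core

With quasi-dihedral or wreathed Sylow 2-subgroups a group with trivial odd core and a normal
`SL(2,q)`, `q` odd, has this `SL(2,q)` as derived subgroup.
-/

set_option autoImplicit false
set_option linter.style.haveILetI false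
set_option linter.unusedSectionVars false

namespace CfsgLib.GWDihedral.Consumers.InvolCentralizer

open Subgroup CfsgLib.KnownC.AutPSL CfsgLib.GWDihedral.LTwoAut CfsgLib.Involution
open scoped commutatorElement Matrix MatrixGroups

universe u

/-- An abelian subgroup of index two whose part fixed by an outside element is cyclic and small. -/
theorem half_data {P : Type*} [Group P] [Finite P]
    (hP : Cfsg.IsQuasiDihedral P ∨ Cfsg.IsWreathed P) :
    ∃ A : Subgroup P, (∀ a ∈ A, ∀ b ∈ A, Commute a b) ∧ 2 * Nat.card A = Nat.card P ∧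
      ∃ w ∉ A, ∃ c : P, (∀ a ∈ A, Commute a w → a ∈ zpowers c) ∧ 4 * orderOf c < Nat.card P := by
  rcases hP with ⟨m, hm, hc, x, y, hx, hy, hxy⟩ | ⟨m, hm, hc, x, y, z, hx, hxy, hd, hz, hzxy⟩
  · obtain ⟨l, rfl⟩ : ∃ l, m = l + 3 := ⟨m - 3, by omega⟩
    rw [show l + 3 - 1 = l + 2 by omega] at hxy
    -- exponents fixed by `y`
    have hfix : ∀ i : ℤ, Commute (x ^ i) y → ((2 : ℤ) ^ (l + 2)) ∣ i := by
      intro i hi
      have h1 : (y * x * y⁻¹) ^ i = x ^ i := by rw [conj_zpow, ← hi.eq, mul_inv_cancel_right]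
      rw [hxy, ← zpow_natCast, ← zpow_mul, ← mul_inv_eq_one, ← zpow_neg, ← zpow_add,
        ← orderOf_dvd_iff_zpow_eq_one, hx] at h1
      have h2 : (2 : ℤ) ^ (l + 3) ∣ 2 * (i * (2 ^ (l + 1) - 1)) := by
        have e : (((2 ^ (l + 2) - 1 : ℕ)) : ℤ) * i + -i = 2 * (i * (2 ^ (l + 1) - 1)) := by
          rw [Nat.cast_sub Nat.one_le_two_pow]
          push_cast
          ring
        rw [e] at h1
        exact_mod_cast h1
      rw [show (2 : ℤ) ^ (l + 3) = 2 * 2 ^ (l + 2) by ring] at h2
      have h3 := (mul_dvd_mul_iff_left (two_ne_zero)).1 h2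
      refine IsCoprime.dvd_of_dvd_mul_right ?_ h3
      refine IsCoprime.pow_left ⟨2 ^ l, -1, ?_⟩
      ring
    refine ⟨zpowers x, fun a ha b hb => ?_, by rw [Nat.card_zpowers, hx, hc]; ring,
      y, fun hmem => ?_, x ^ 2 ^ (l + 2), fun a ha hay => ?_, ?_⟩
    · obtain ⟨i, rfl⟩ := mem_zpowers_iff.1 ha
      obtain ⟨j, rfl⟩ := mem_zpowers_iff.1 hb
      exact (Commute.refl x).zpow_zpow i j
    · obtain ⟨i, hi⟩ := mem_zpowers_iff.1 hmem
      have h1 := Int.le_of_dvd one_pos (hfix 1 (by rw [zpow_one, ← hi]; exact (Commute.refl x).zpow_right i))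
      have h2 : (2 : ℤ) ≤ 2 ^ (l + 2) := le_self_pow₀ (by norm_num) (by omega)
      omega
    · obtain ⟨i, rfl⟩ := mem_zpowers_iff.1 ha
      obtain ⟨j, rfl⟩ := hfix i hay
      refine mem_zpowers_iff.2 ⟨j, ?_⟩
      rw [← zpow_natCast, ← zpow_mul]
      norm_num
    · rw [orderOf_pow_of_dvd (by positivity) (hx ▸ pow_dvd_pow 2 (by omega)), hx,
        Nat.pow_div (by omega) two_pos, hc, show l + 3 - (l + 2) = 1 by omega]
      have : 2 ^ 4 ≤ 2 ^ (l + 3 + 1) := Nat.pow_le_pow_right two_pos (by omega)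
      omega
  · have hyo : orderOf y = 2 ^ m := by
      rw [← hzxy, ← hx]
      exact (MulAut.conj z).orderOf_eq x
    have hzz : z * z = 1 := by rw [← pow_two, ← hz, pow_orderOf_eq_one]
    have hzy : z * y * z⁻¹ = x := by
      rw [← hzxy, inv_eq_of_mul_eq_one_right hzz, mul_assoc, mul_assoc, mul_assoc, hzz, mul_one,
        ← mul_assoc, hzz, one_mul]
    have hcxy : Commute x y := hxy
    have hnorm : zpowers y ≤ normalizer ((zpowers x : Subgroup P) : Set P) := by
      refine zpowers_le.2 (centralizer_le_normalizer _ (mem_centralizer_iff.2 fun v hv => ?_))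
      obtain ⟨i, rfl⟩ := mem_zpowers_iff.1 hv
      exact (hcxy.zpow_left i).eq
    have hAmem : ∀ v ∈ zpowers x ⊔ zpowers y, ∃ i j : ℤ, v = x ^ i * y ^ j := fun v hv => by
      obtain ⟨p, hp, q, hq, rfl⟩ := (CfsgLib.Coprime.mem_sup_of_le_normalizer hnorm).1 hv
      obtain ⟨i, rfl⟩ := mem_zpowers_iff.1 hp
      obtain ⟨j, rfl⟩ := mem_zpowers_iff.1 hq
      exact ⟨i, j, rfl⟩
    have hcomm : ∀ a ∈ zpowers x ⊔ zpowers y, ∀ b ∈ zpowers x ⊔ zpowers y, Commute a b := by
      intro a ha b hb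
      obtain ⟨i, j, rfl⟩ := hAmem a ha
      obtain ⟨i', j', rfl⟩ := hAmem b hb
      exact (((Commute.refl x).zpow_zpow i i').mul_right (hcxy.zpow_zpow i j')).mul_left
        (((hcxy.symm.zpow_zpow j i')).mul_right ((Commute.refl y).zpow_zpow j j'))
    refine ⟨zpowers x ⊔ zpowers y, hcomm, ?_, z, fun hmem => ?_, x * y, fun a ha haz => ?_, ?_⟩
    · rw [CfsgLib.Coprime.card_sup_of_le_normalizer hnorm (disjoint_iff.2 hd), Nat.card_zpowers,
        Nat.card_zpowers, hx, hyo, hc]
      ring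
    · have h2 : x ∈ zpowers x ⊓ zpowers y := by
        refine ⟨mem_zpowers x, ?_⟩
        rw [← hzxy, (hcomm z hmem x (mem_sup_left (mem_zpowers x))).eq, mul_inv_cancel_right]
        exact mem_zpowers x
      rw [hd, mem_bot] at h2
      rw [h2, orderOf_one] at hx
      have := Nat.le_self_pow (show m ≠ 0 by omega) 2
      omega
    · obtain ⟨i, j, rfl⟩ := hAmem a ha
      have h1 : (z * x * z⁻¹) ^ i * (z * y * z⁻¹) ^ j = x ^ i * y ^ j := by
        rw [conj_zpow, conj_zpow, show z * x ^ i * z⁻¹ * (z * y ^ j * z⁻¹) = z * (x ^ i * y ^ j) * z⁻¹ by group,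
          ← haz.eq, mul_inv_cancel_right]
      rw [hzxy, hzy, ← (hcxy.zpow_zpow j i).eq] at h1
      have h3 : x ^ (j - i) = y ^ (j - i) :=
        calc x ^ (j - i) = (x ^ i)⁻¹ * (x ^ j * y ^ i) * (y ^ i)⁻¹ := by group
          _ = (x ^ i)⁻¹ * (x ^ i * y ^ j) * (y ^ i)⁻¹ := by rw [h1]
          _ = y ^ (j - i) := by group
      have h4 : x ^ (j - i) = 1 := by
        rw [← mem_bot, ← hd]
        exact ⟨zpow_mem (mem_zpowers x) _, h3 ▸ zpow_mem (mem_zpowers y) _⟩
      refine mem_zpowers_iff.2 ⟨j, ?_⟩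
      rw [hcxy.mul_zpow, show x ^ j = x ^ i by
        rw [zpow_sub] at h4
        exact mul_inv_eq_one.1 h4]
    · have h1 : orderOf (x * y) ≤ 2 ^ m := Nat.le_of_dvd (by positivity) (orderOf_dvd_of_pow_eq_one (by
        conv_lhs => rw [hcxy.mul_pow]
        rw [← hx, pow_orderOf_eq_one, hx, ← hyo, pow_orderOf_eq_one, one_mul]))
      rw [hc]
      have h2 : 2 ^ (m + 3) ≤ 2 ^ (2 * m + 1) := Nat.pow_le_pow_right two_pos (by omega)
      rw [pow_add] at h2
      have := Nat.one_le_two_pow (n := m)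
      omega

/-- A generalised quaternion group is not abelian. -/
theorem quaternion_not_comm {k : ℕ} (hk : 1 ≤ k) :
    (QuaternionGroup.a 1 : QuaternionGroup (2 ^ k)) * QuaternionGroup.xa 0 ≠
      QuaternionGroup.xa 0 * QuaternionGroup.a 1 := by
  rw [QuaternionGroup.a_mul_xa, QuaternionGroup.xa_mul_a]
  intro h
  injection h with h'
  have h2 : ((2 : ℕ) : ZMod (2 * 2 ^ k)) = 0 := by
    push_cast
    linear_combination -h'
  have h3 := Nat.le_of_dvd two_pos ((CharP.cast_eq_zero_iff (ZMod (2 * 2 ^ k)) (2 * 2 ^ k) 2).1 h2)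
  have h4 : 2 ≤ 2 ^ k := Nat.le_self_pow (by omega) 2
  omega

section field

variable {F : Type*} [Field F] [Fintype F]

local notation "PSL" => Matrix.ProjectiveSpecialLinearGroup (Fin 2) F

/-- `Aut PSL(2,q)` is abelian modulo the inner automorphisms. -/
theorem commutator_mem_inn (hodd : Odd (Fintype.card F)) (a b : MulAut PSL) :
    ⁅a, b⁆ ∈ (inn : Subgroup (MulAut PSL)) := by
  classical
  haveI hN : (inn : Subgroup (MulAut PSL)).Normal := ⟨by
    rintro _ ⟨g, rfl⟩ β
    exact ⟨β g, MulEquiv.ext fun x => by simp⟩⟩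
  obtain ⟨n, hp, hq⟩ := FiniteField.card F (ringChar F)
  haveI : Fact (ringChar F).Prime := ⟨hp⟩
  obtain ⟨e⟩ := ringAut_cyclic (F := F) hq
  haveI : IsCyclic (F ≃+* F) := e.isCyclic.2 inferInstance
  let f : (MulAut PSL ⧸ (inn : Subgroup (MulAut PSL))) →* (F ≃+* F) :=
    QuotientGroup.lift _ fieldHom fun x hx => fieldHom_eq_one.2 (inn_le hx)
  have hf : f.ker ≤ center _ := by
    intro x
    induction x using QuotientGroup.induction_on with
    | _ α =>
      intro hα
      have hα' : α ∈ (pgl : Subgroup (MulAut PSL)) := fieldHom_eq_one.1 hα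
      rw [mem_center_iff]
      intro y
      induction y using QuotientGroup.induction_on with
      | _ β =>
        rw [← QuotientGroup.mk_mul, ← QuotientGroup.mk_mul, QuotientGroup.eq,
          show (β * α)⁻¹ * (α * β) = α⁻¹ * (β⁻¹ * α * β) by group]
        by_cases hi : α ∈ (inn : Subgroup (MulAut PSL))
        · refine mul_mem (inv_mem hi) ?_
          simpa using hN.conj_mem α hi β⁻¹
        · obtain ⟨A, rfl⟩ := hα'
          have hB : β⁻¹ * sa A * β ∈ (pgl : Subgroup (MulAut PSL)) := by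
            rw [← fieldHom_eq_one, map_mul, map_mul, fieldHom_eq_one.2 (sa_mem_pgl A), mul_one,
              map_inv, inv_mul_cancel]
          obtain ⟨B, hB⟩ := hB
          rw [← hB, ← map_inv, ← map_mul]
          refine mul_mem_inn hodd (fun h => hi ?_) (fun h => hi ?_)
          · rw [map_inv] at h; exact inv_mem_iff.1 h
          · rw [hB] at h
            have h1 := hN.conj_mem _ h β
            simpa [mul_assoc] using h1
  have h := commutative_of_cyclic_center_quotient f hf (QuotientGroup.mk a) (QuotientGroup.mk b)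
  rw [← QuotientGroup.eq_one_iff, ← QuotientGroup.mk'_apply, map_commutatorElement,
    commutatorElement_eq_one_iff_mul_comm]
  exact h

/-- A map of `SL(2,q)`, `q` odd, to a 2-group is trivial. -/
theorem hom_eq_one (hodd : Odd (Fintype.card F)) {Q : Type*} [Group Q] (h2 : IsPGroup 2 Q)
    (ψ : Matrix.SpecialLinearGroup (Fin 2) F →* Q) (x : Matrix.SpecialLinearGroup (Fin 2) F) :
    ψ x = 1 := by
  classical
  obtain ⟨f, hp, hq⟩ := FiniteField.card F (ringChar F)
  have hp2 : ringChar F ≠ 2 := fun h => Nat.not_even_iff_odd.2 hodd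
    (Nat.even_iff.2 (FiniteField.even_card_of_char_two h))
  have htop : ψ.ker = ⊤ := by
    refine CfsgLib.Classical.sl_subgroup_eq_top _ fun i j hij c => ?_
    rw [MonoidHom.mem_ker, ← orderOf_eq_one_iff]
    have hpow : ∀ m : ℕ, Matrix.SpecialLinearGroup.transvection hij c ^ m =
        Matrix.SpecialLinearGroup.transvection hij ((m : F) * c) := by
      intro m
      induction m with
      | zero => simp [Matrix.SpecialLinearGroup.transvection_coeff_zero]
      | succ m ih =>
        rw [pow_succ, ih, ← Matrix.SpecialLinearGroup.transvection_add, Nat.cast_succ, add_mul, one_mul]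
    obtain ⟨j', hj'⟩ := IsPGroup.iff_orderOf.1 h2 (ψ (Matrix.SpecialLinearGroup.transvection hij c))
    have h1 : orderOf (ψ (Matrix.SpecialLinearGroup.transvection hij c)) ∣ ringChar F :=
      orderOf_dvd_of_pow_eq_one (by
        rw [← map_pow, hpow, ringChar.Nat.cast_ringChar, zero_mul,
          Matrix.SpecialLinearGroup.transvection_coeff_zero, map_one])
    exact Nat.eq_one_of_dvd_coprimes (a := 2 ^ j') (b := ringChar F)
      (Nat.Coprime.pow_left _ ((Nat.coprime_primes Nat.prime_two hp).2 (Ne.symm hp2))) (dvd_of_eq hj') h1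
  exact (MonoidHom.mem_ker (f := ψ)).1 (htop ▸ mem_top x)

/-- For `q = 3` a group of automorphisms strictly containing the inner ones has two elements with
commutator of order three. -/
theorem exists_commutator_three (h3 : Fintype.card F = 3) {Y : Subgroup (MulAut PSL)}
    (hY : (inn : Subgroup (MulAut PSL)) ≤ Y) {α : MulAut PSL} (hαY : α ∈ Y)
    (hα : α ∉ (inn : Subgroup (MulAut PSL))) : ∃ a ∈ Y, ∃ b ∈ Y, orderOf ⁅a, b⁆ = 3 := by
  classical
  haveI : Fact (Nat.Prime 3) := ⟨Nat.prime_three⟩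
  have hodd : Odd (Fintype.card F) := by rw [h3]; exact ⟨1, rfl⟩
  haveI hsub : Subsingleton (F ≃+* F) := by
    obtain ⟨e⟩ := ringAut_cyclic (F := F) (p := 3) (f := 1) (by rw [h3, pow_one])
    exact e.toEquiv.subsingleton
  have hpgl : (pgl : Subgroup (MulAut PSL)) ≤ Y := by
    obtain ⟨A, rfl⟩ : α ∈ (pgl : Subgroup (MulAut PSL)) :=
      fieldHom_eq_one.1 (Subsingleton.elim _ _)
    exact pgl_le hodd hY hαY hα
  have hcast : (3 : F) = 0 := by
    have := Nat.cast_card_eq_zero F
    rwa [h3, Nat.cast_ofNat] at this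
  set A : GL (Fin 2) F := rm
  let U : GL (Fin 2) F := Matrix.GeneralLinearGroup.mkOfDetNeZero !![1, 1; 0, 1] (by simp [Matrix.det_fin_two_of])
  let X : GL (Fin 2) F := Matrix.GeneralLinearGroup.mkOfDetNeZero !![1, -2; 0, 1] (by simp [Matrix.det_fin_two_of])
  have hUv : (U : Matrix (Fin 2) (Fin 2) F) = !![1, 1; 0, 1] := rfl
  have hXv : (X : Matrix (Fin 2) (Fin 2) F) = !![1, -2; 0, 1] := rfl
  have hAU : ⁅A, U⁆ = X := by
    have e : A * U = X * (U * A) := Units.ext (by
      simp only [Units.val_mul, hUv, hXv, A, rm_val, Matrix.mul_fin_two]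
      ext i j
      fin_cases i <;> fin_cases j <;> simp <;> ring)
    rw [commutatorElement_def, e]
    group
  refine ⟨sa A, hpgl (sa_mem_pgl A), sa U, hpgl (sa_mem_pgl U), ?_⟩
  rw [← map_commutatorElement, hAU]
  refine orderOf_eq_prime ?_ ?_
  · rw [← map_pow]
    have : X ^ 3 = 1 := Units.ext (by
      rw [pow_succ, pow_two, Units.val_mul, Units.val_mul, hXv, Matrix.mul_fin_two, Matrix.mul_fin_two,
        Units.val_one, Matrix.one_fin_two]
      ext i j
      fin_cases i <;> fin_cases j <;> simp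
      linear_combination (-2 : F) * hcast)
    rw [this, map_one]
  · intro h
    obtain ⟨c, hc⟩ := sa_eq_one.1 h
    have e := congrArg (fun M : GL (Fin 2) F => (M : Matrix (Fin 2) (Fin 2) F) 0 1) hc
    simp only [hXv, scl_val] at e
    simp at e
    exact two_ne_zero_of_odd hodd e

end field

variable {H : Type u} [Group H] [Finite H]

/-- The centraliser of the normal `SL(2,q)` is a central 2-group, of small order. -/
theorem centralizer_sl2 (S : Sylow 2 H)
    (hS : Cfsg.IsQuasiDihedral (S : Subgroup H) ∨ Cfsg.IsWreathed (S : Subgroup H))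
    (hO : Cfsg.oddCore H = ⊥) (L : Subgroup H) [L.Normal]
    {F : Type} [Field F] [Fintype F] (hodd : Odd (Fintype.card F))
    (e : ↥L ≃* Matrix.SpecialLinearGroup (Fin 2) F) :
    centralizer (L : Set H) ≤ center H ∧ centralizer (L : Set H) ≤ S ∧
      4 * Nat.card (centralizer (L : Set H)) < Nat.card (S : Subgroup H) ∧
      ∀ s ∈ (S : Subgroup H), ∀ s' ∈ (S : Subgroup H), ⁅s, s'⁆ ∈ L := by
  classical
  haveI : Fact (Nat.Prime 2) := ⟨Nat.prime_two⟩
  obtain ⟨A, hAc, hA2, w, hw, c, hc, hcard⟩ := half_data hS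
  obtain ⟨P, hP⟩ := CfsgLib.NT.SylowCount.exists_sylow_inf S L
  obtain ⟨k, hk, ⟨eq⟩⟩ := Cfsg.Agent.S0261.result hodd (P.mapSurjective (f := e.toMonoidHom) e.surjective)
  let ePS : ↥(P : Subgroup L) ≃* QuaternionGroup (2 ^ k) :=
    ((P : Subgroup L).equivMapOfInjective e.toMonoidHom e.injective).trans eq
  -- two elements of `S ⊓ L` which do not commute
  obtain ⟨u₁, u₂, hu₁, hu₂, hu⟩ : ∃ u₁ u₂ : ↥(S : Subgroup H),
      (u₁ : H) ∈ L ∧ (u₂ : H) ∈ L ∧ ¬ Commute u₁ u₂ := by
    have hm : ∀ q, (((ePS.symm q : ↥(P : Subgroup L)) : L) : H) ∈ (S : Subgroup H) ⊓ L := fun q =>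
      hP.le ⟨_, (ePS.symm q).2, rfl⟩
    refine ⟨⟨_, (hm (QuaternionGroup.a 1)).1⟩, ⟨_, (hm (QuaternionGroup.xa 0)).1⟩, (hm _).2, (hm _).2,
      fun h => quaternion_not_comm hk (ePS.symm.injective ?_)⟩
    rw [map_mul, map_mul]
    exact Subtype.ext (Subtype.ext (congrArg (fun y : ↥(S : Subgroup H) => (y : H)) h.eq))
  obtain ⟨v, hvL, hv⟩ : ∃ v : ↥(S : Subgroup H), (v : H) ∈ L ∧ v ∉ A := by
    by_contra hall
    push Not at hall
    exact hu (hAc _ (hall u₁ hu₁) _ (hall u₂ hu₂))
  have hdec : ∀ {p : ↥(S : Subgroup H)}, p ∉ A → ∀ {q}, q ∉ A → p⁻¹ * q ∈ A := fun hp _ hq =>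
    mul_mem_of_half A hA2 (fun h => hp (A.inv_mem_iff.1 h)) hq
  have hkey : ∀ x : ↥(S : Subgroup H), (x : H) ∈ centralizer (L : Set H) →
      x ∈ zpowers c ∧ ∀ s, Commute x s := by
    intro x hx
    have hxL : ∀ q : ↥(S : Subgroup H), (q : H) ∈ L → Commute x q := fun q hq =>
      Subtype.ext (mem_centralizer_iff.1 hx _ hq).symm
    have hxA : x ∈ A := by
      by_contra hxA
      have hcen : ∀ q : ↥(S : Subgroup H), (q : H) ∈ L → q ∈ A → ∀ s, Commute q s := fun q hqL hqA s => by
        by_cases hs : s ∈ A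
        · exact hAc q hqA s hs
        · rw [← mul_inv_cancel_left x s]
          exact (hxL q hqL).symm.mul_right (hAc q hqA _ (hdec hxA hs))
      by_cases h1 : u₁ ∈ A
      · exact hu (hcen u₁ hu₁ h1 u₂)
      by_cases h2 : u₂ ∈ A
      · exact hu (hcen u₂ hu₂ h2 u₁).symm
      have h3 : u₁⁻¹ * u₂ ∈ A := hdec h1 h2
      have h4 := hcen _ (L.mul_mem (L.inv_mem hu₁) hu₂) h3 u₁
      exact hu (by
        rw [show u₂ = u₁ * (u₁⁻¹ * u₂) by group]
        exact (Commute.refl u₁).mul_right h4.symm)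
    refine ⟨hc x hxA ?_, fun s => ?_⟩
    · rw [← mul_inv_cancel_left v w]
      exact (hxL v hvL).mul_right (hAc x hxA _ (hdec hv hw))
    · by_cases hs : s ∈ A
      · exact hAc x hxA s hs
      · rw [← mul_inv_cancel_left v s]
        exact (hxL v hvL).mul_right (hAc x hxA _ (hdec hv hs))
  set C := centralizer (L : Set H) with hC
  haveI : C.Normal := inferInstance
  obtain ⟨Q, hQ⟩ := CfsgLib.NT.SylowCount.exists_sylow_inf S C
  set C' := C.subgroupOf (S : Subgroup H) with hC'
  have hle : C' ≤ zpowers c := fun x hx => (hkey x hx).1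
  haveI : IsCyclic ↥C' := Subgroup.isCyclic_of_le hle
  have hQc : IsCyclic ↥(Q : Subgroup C) := by
    refine ((Q : Subgroup C).equivMapOfInjective _ C.subtype_injective).isCyclic.2 ?_
    rw [hQ]
    refine (Subgroup.equivMapOfInjective C' _ (S : Subgroup H).subtype_injective).isCyclic.1 inferInstance |>
      fun h => ?_
    rwa [hC', Subgroup.subgroupOf_map_subtype, inf_comm] at h
  have hC2 : IsPGroup 2 ↥C := by
    by_cases hev : 2 ∣ Nat.card C
    · have hmin : (Nat.card C).minFac = 2 := (Nat.minFac_eq_two_iff _).mpr hev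
      have hK := hQc.isComplement' hmin
      set K := (MonoidHom.transferSylow Q (hQc.normalizer_le_centralizer hmin)).ker
      have hK2 : ¬ 2 ∣ Nat.card K := MonoidHom.not_dvd_card_ker_transferSylow Q _
      have hKbot : K = ⊥ := by
        have h1 : K ≤ Cfsg.oddCore ↥C := CfsgLib.Solvable.Cores.le_pPrimeCore
          ((Nat.Prime.coprime_iff_not_dvd Nat.prime_two).2 hK2).symm
        have h2 : (Cfsg.pPrimeCore 2 ↥C).map C.subtype ≤ Cfsg.oddCore H := CfsgLib.Solvable.Cores.le_pPrimeCore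
          (by rw [card_map_of_injective C.subtype_injective]; exact CfsgLib.Solvable.Cores.coprime_card_pPrimeCore 2)
        rw [hO, le_bot_iff, map_eq_bot_iff_of_injective _ C.subtype_injective] at h2
        exact le_bot_iff.1 (h1.trans_eq h2)
      have h3 := hK.card_mul_card
      rw [hKbot, Subgroup.card_bot, one_mul] at h3
      obtain ⟨j, hj⟩ := Q.2.exists_card_eq
      exact IsPGroup.of_card (n := j) (h3 ▸ hj)
    · refine IsPGroup.of_card (n := 0) ?_
      have h1 : C ≤ Cfsg.oddCore H := CfsgLib.Solvable.Cores.le_pPrimeCore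
        ((Nat.Prime.coprime_iff_not_dvd Nat.prime_two).2 hev).symm
      rw [hO, le_bot_iff] at h1
      rw [h1, Subgroup.card_bot, pow_zero]
  have hCS : C ≤ S := (CfsgLib.Solvable.Cores.le_pCore hC2).trans (CfsgLib.Solvable.Cores.pCore_le_sylow S)
  have hCcyc : IsCyclic ↥C := (subgroupOfEquivOfLe hCS).isCyclic.1 inferInstance
  refine ⟨?_, hCS, ?_, ?_⟩
  · -- a 2-group acting with odd image
    haveI := hCcyc
    let φ : H →* MulAut ↥C := MulAut.conjNormal
    have hSker : (S : Subgroup H) ≤ φ.ker := fun s hs => MulEquiv.ext fun x => Subtype.ext (by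
      rw [MulAut.conjNormal_apply, MulAut.one_apply]
      have h1 := congrArg Subtype.val ((hkey ⟨x, hCS x.2⟩ x.2).2 ⟨s, hs⟩).eq
      exact mul_inv_eq_iff_eq_mul.2 h1.symm)
    have h1 : Nat.card φ.range = 1 := by
      refine Nat.eq_one_of_dvd_coprimes (a := Nat.card (MulAut ↥C)) (b := (S : Subgroup H).index) ?_
        φ.range.card_subgroup_dvd_card ?_
      · obtain ⟨j, hj⟩ := hC2.exists_card_eq
        rw [IsCyclic.card_mulAut, hj]
        have hidx : Nat.Coprime 2 (S : Subgroup H).index :=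
          (Nat.Prime.coprime_iff_not_dvd Nat.prime_two).2 S.not_dvd_index
        rcases j with _ | j
        · simp
        · rw [Nat.totient_prime_pow_succ Nat.prime_two]
          simpa using hidx.pow_left j
      · rw [← index_ker]
        exact index_dvd_of_le hSker
    intro x hx
    rw [mem_center_iff]
    intro g
    have h2 : φ g = 1 := by
      have h := Subgroup.card_eq_one.1 h1
      exact (mem_bot.1 (h.le ⟨g, rfl⟩))
    have h3 := congrArg Subtype.val (DFunLike.congr_fun h2 ⟨x, hx⟩)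
    rw [MulAut.conjNormal_apply] at h3
    exact mul_inv_eq_iff_eq_mul.1 h3
  · refine lt_of_le_of_lt (Nat.mul_le_mul_left 4 ?_) hcard
    rw [← Nat.card_congr (subgroupOfEquivOfLe hCS).toEquiv, ← Nat.card_zpowers]
    exact Subgroup.card_le_of_le hle
  · -- the abelian half covers `S` modulo `L`
    intro s hs s' hs'
    set ρ := (QuotientGroup.mk' L).comp (S : Subgroup H).subtype
    have hρv : ρ v = 1 := (QuotientGroup.eq_one_iff _).2 hvL
    have hA : ∀ p : ↥(S : Subgroup H), ∃ a ∈ A, ρ p = ρ a := fun p => by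
      by_cases hp : p ∈ A
      · exact ⟨p, hp, rfl⟩
      · exact ⟨v⁻¹ * p, hdec hv hp, by rw [map_mul, map_inv, hρv, inv_one, one_mul]⟩
    obtain ⟨a, ha, e1⟩ := hA ⟨s, hs⟩
    obtain ⟨b, hb, e2⟩ := hA ⟨s', hs'⟩
    have h1 : ρ ⁅(⟨s, hs⟩ : ↥(S : Subgroup H)), ⟨s', hs'⟩⁆ = 1 := by
      rw [map_commutatorElement, e1, e2, commutatorElement_eq_one_iff_commute]
      exact (hAc a ha b hb).map ρ
    exact (QuotientGroup.eq_one_iff _).1 h1

/-- The derived subgroup is the normal `SL(2,q)`. -/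
theorem commutator_eq (S : Sylow 2 H)
    (hS : Cfsg.IsQuasiDihedral (S : Subgroup H) ∨ Cfsg.IsWreathed (S : Subgroup H))
    (hO : Cfsg.oddCore H = ⊥) (L : Subgroup H) [L.Normal]
    {F : Type} [Field F] [Fintype F] (hodd : Odd (Fintype.card F))
    (e : ↥L ≃* Matrix.SpecialLinearGroup (Fin 2) F) : commutator H = L := by
  classical
  haveI : Fact (Nat.Prime 2) := ⟨Nat.prime_two⟩
  obtain ⟨hCz, hCS, hsmall, hSS⟩ := centralizer_sl2 S hS hO L hodd e
  set C := centralizer (L : Set H) with hC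
  obtain ⟨hc24, hc2⟩ := card_sl2_ge hodd
  -- the centre of `L` is central
  have hLz : ∀ z : ↥L, z ∈ center ↥L → (z : H) ∈ C := fun z hz =>
    mem_centralizer_iff.2 fun y hy => congrArg Subtype.val (mem_center_iff.1 hz ⟨y, hy⟩)
  let g : ↥L →* Matrix.ProjectiveSpecialLinearGroup (Fin 2) F := (QuotientGroup.mk' _).comp e.toMonoidHom
  have hgs : Function.Surjective g := (QuotientGroup.mk'_surjective _).comp e.surjective
  have hgk : g.ker = center ↥L := by
    ext z
    rw [MonoidHom.mem_ker, show g z = QuotientGroup.mk (e z) from rfl, QuotientGroup.eq_one_iff]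
    simp only [mem_center_iff]
    constructor
    · intro h y; exact e.injective (by rw [map_mul, map_mul, h])
    · intro h y
      obtain ⟨y, rfl⟩ := e.surjective y
      rw [← map_mul, ← map_mul, h]
  let eP : ↥L ⧸ center ↥L ≃* Matrix.ProjectiveSpecialLinearGroup (Fin 2) F :=
    (QuotientGroup.quotientMulEquivOfEq hgk.symm).trans (QuotientGroup.quotientKerEquivOfSurjective g hgs)
  set π := QuotientGroup.mk' C
  haveI : (L.map π).Normal := (inferInstance : L.Normal).map π (QuotientGroup.mk'_surjective _)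
  have hk : (π.subgroupMap L).ker = center ↥L := by
    ext z
    rw [MonoidHom.mem_ker, Subtype.ext_iff]
    show π (z : H) = 1 ↔ _
    rw [QuotientGroup.mk'_apply, QuotientGroup.eq_one_iff]
    refine ⟨fun h => mem_center_iff.2 fun y => Subtype.ext ?_, hLz z⟩
    exact mem_centralizer_iff.1 h y y.2
  let eN : ↥(L.map π) ≃* Matrix.ProjectiveSpecialLinearGroup (Fin 2) F :=
    ((QuotientGroup.quotientKerEquivOfSurjective _ (π.subgroupMap_surjective L)).symm.trans
      (QuotientGroup.quotientMulEquivOfEq hk)).trans eP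
  let f : H →* MulAut (Matrix.ProjectiveSpecialLinearGroup (Fin 2) F) :=
    (MulAut.congr eN).toMonoidHom.comp ((MulAut.conjNormal : H ⧸ C →* MulAut ↥(L.map π)).comp π)
  have hfL : ∀ l : ↥L, f l = MulAut.conj (eN ⟨π l, l, l.2, rfl⟩) := fun l => MulEquiv.ext fun p => by
    obtain ⟨q, rfl⟩ := eN.surjective p
    rw [MulAut.conj_apply, ← map_inv, ← map_mul, ← map_mul]
    show eN ((MulAut.conjNormal (π (l : H))) (eN.symm (eN q))) = _
    rw [eN.symm_apply_apply]
    exact congrArg eN (Subtype.ext (MulAut.conjNormal_apply _ _))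
  -- the kernel
  have hker : f.ker ≤ C := by
    intro c hc
    have h1 : (MulAut.conjNormal (π c) : MulAut ↥(L.map π)) = 1 :=
      (MulAut.congr eN).injective (by rw [map_one]; exact hc)
    have h2 : ∀ l : ↥L, c⁻¹ * ((l : H) * c * (l : H)⁻¹) ∈ C := by
      intro l
      have h := congrArg (fun φ : MulAut ↥(L.map π) => ((φ ⟨π l, l, l.2, rfl⟩ : ↥(L.map π)) : H ⧸ C)) h1
      simp only [MulAut.conjNormal_apply, MulAut.one_apply] at h
      rw [← QuotientGroup.eq_one_iff]
      show π (c⁻¹ * ((l : H) * c * (l : H)⁻¹)) = 1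
      rw [map_mul, map_mul, map_mul, map_inv, map_inv,
        show π l * π c = π c * π l from (mul_inv_eq_iff_eq_mul.1 h).symm]
      group
    let χ : ↥L →* ↥C :=
      { toFun := fun l => ⟨_, h2 l⟩
        map_one' := Subtype.ext (by simp)
        map_mul' := fun l m => Subtype.ext (by
          show c⁻¹ * ((l : H) * m * c * ((l : H) * m)⁻¹) =
            c⁻¹ * ((l : H) * c * (l : H)⁻¹) * (c⁻¹ * ((m : H) * c * (m : H)⁻¹))
          have e1 := mem_center_iff.1 (hCz (h2 m)) ((l : H)⁻¹)
          calc c⁻¹ * ((l : H) * m * c * ((l : H) * m)⁻¹)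
              = c⁻¹ * (l : H) * c * ((c⁻¹ * ((m : H) * c * (m : H)⁻¹)) * (l : H)⁻¹) := by group
            _ = c⁻¹ * (l : H) * c * ((l : H)⁻¹ * (c⁻¹ * ((m : H) * c * (m : H)⁻¹))) := by rw [e1]
            _ = c⁻¹ * ((l : H) * c * (l : H)⁻¹) * (c⁻¹ * ((m : H) * c * (m : H)⁻¹)) := by group) }
    rw [hC, mem_centralizer_iff]
    intro y hy
    have h3 := hom_eq_one hodd (S.2.to_le hCS) (χ.comp e.symm.toMonoidHom) (e ⟨y, hy⟩)
    rw [MonoidHom.comp_apply, MulEquiv.coe_toMonoidHom, e.symm_apply_apply] at h3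
    have h4 : c⁻¹ * (y * c * y⁻¹) = 1 := congrArg Subtype.val h3
    exact mul_inv_eq_iff_eq_mul.1 (inv_mul_eq_one.1 h4).symm
  have hinn : L.map f = inn := by
    apply le_antisymm
    · rintro _ ⟨l, hl, rfl⟩
      exact ⟨_, (hfL ⟨l, hl⟩).symm⟩
    · rintro _ ⟨p, rfl⟩
      obtain ⟨⟨_, l, hl, rfl⟩, rfl⟩ := eN.surjective p
      exact ⟨l, hl, hfL ⟨l, hl⟩⟩
  have hcom : ∀ a b : H, ⁅a, b⁆ ∈ L ⊔ C := by
    intro a b
    have h := commutator_mem_inn hodd (f a) (f b)
    rw [← map_commutatorElement, ← hinn] at h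
    obtain ⟨l, hl, hfl⟩ := h
    rw [show ⁅a, b⁆ = l * (l⁻¹ * ⁅a, b⁆) by group]
    exact mul_mem_sup hl (hker (by rw [MonoidHom.mem_ker, map_mul, map_inv, hfl, inv_mul_cancel]))
  -- the quotient is abelian
  have hle : commutator H ≤ L := by
    set D := H ⧸ L
    set μ := QuotientGroup.mk' L
    have hD' : ∀ a b : D, ⁅a, b⁆ ∈ C.map μ := by
      intro a b
      obtain ⟨a, rfl⟩ := QuotientGroup.mk'_surjective L a
      obtain ⟨b, rfl⟩ := QuotientGroup.mk'_surjective L b
      rw [← map_commutatorElement]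
      have h := mem_map_of_mem μ (hcom a b)
      rwa [Subgroup.map_sup, (Subgroup.map_eq_bot_iff _).2 (QuotientGroup.ker_mk' L).ge, bot_sup_eq] at h
    have hCμ : ∀ x ∈ C.map μ, ∀ y : D, Commute x y := by
      rintro _ ⟨x, hx, rfl⟩ y
      obtain ⟨y, rfl⟩ := QuotientGroup.mk'_surjective L y
      exact (show Commute x y from (mem_center_iff.1 (hCz hx) y).symm).map μ
    have hCp : IsPGroup 2 ↥(C.map μ) := (S.2.to_le hCS).map μ
    -- elements of odd order are central
    have hoddc : ∀ x : D, Odd (orderOf x) → x ∈ center D := by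
      intro x hx
      rw [mem_center_iff]
      intro y
      set d := ⁅x, y⁆ with hd
      have hdx : Commute d x := hCμ _ (hD' x y) x
      have h1 : ∀ m : ℕ, ⁅x ^ m, y⁆ = d ^ m := by
        intro m
        induction m with
        | zero => simp
        | succ m ih =>
          rw [pow_succ' x, pow_succ d, ← ih, commutatorElement_def, commutatorElement_def, mul_inv_rev,
            show x * x ^ m * y * ((x ^ m)⁻¹ * x⁻¹) * y⁻¹ =
              x * (x ^ m * y * (x ^ m)⁻¹ * y⁻¹) * (y * x⁻¹ * y⁻¹) by group,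
            ← commutatorElement_def (x ^ m), ih, ← (hdx.pow_left m).eq, mul_assoc]
          congr 1
          rw [hd, commutatorElement_def]; group
      have h2 : d ^ orderOf x = 1 := by rw [← h1, pow_orderOf_eq_one, commutatorElement_one_left]
      obtain ⟨j, hj⟩ := IsPGroup.iff_orderOf.1 hCp ⟨d, hD' x y⟩
      have h3 : orderOf d = 1 := Nat.eq_one_of_dvd_coprimes ((Nat.coprime_two_left.2 hx).pow_left j)
        (dvd_of_eq ((Subgroup.orderOf_mk d (hD' x y)).symm.trans hj)) (orderOf_dvd_of_pow_eq_one h2)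
      rw [orderOf_eq_one_iff, hd, commutatorElement_eq_one_iff_mul_comm] at h3
      exact h3.symm
    have hp : IsPGroup 2 (D ⧸ center D) := by
      intro q
      induction q using QuotientGroup.induction_on with
      | _ x =>
        obtain ⟨j, m, hm, hjm⟩ := Nat.exists_eq_two_pow_mul_odd (orderOf_pos x).ne'
        refine ⟨j, ?_⟩
        rw [← QuotientGroup.mk_pow, QuotientGroup.eq_one_iff]
        refine hoddc _ ?_
        rw [orderOf_pow_of_dvd (by positivity) ⟨m, hjm⟩, hjm, Nat.mul_div_cancel_left _ (by positivity)]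
        exact hm
    let δ : H →* D ⧸ center D := (QuotientGroup.mk' (center D)).comp μ
    have hδ : Function.Surjective δ := (QuotientGroup.mk'_surjective _).comp (QuotientGroup.mk'_surjective _)
    have hcover : ∀ x : D, ∃ s ∈ (S : Subgroup H), ∃ z ∈ center D, x = μ s * z := by
      intro x
      have htop : ((S.mapSurjective hδ : Sylow 2 (D ⧸ center D)) : Subgroup (D ⧸ center D)) = ⊤ :=
        ((S.mapSurjective hδ).is_maximal' (hp.of_equiv Subgroup.topEquiv.symm) le_top).symm
      obtain ⟨s, hs, hsx⟩ : QuotientGroup.mk x ∈ (S : Subgroup H).map δ := by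
        have h := mem_top (QuotientGroup.mk (s := center D) x)
        rwa [← htop] at h
      exact ⟨s, hs, (μ s)⁻¹ * x, QuotientGroup.eq.1 hsx, (mul_inv_cancel_left _ _).symm⟩
    rw [_root_.commutator_def, commutator_le]
    intro a _ b _
    rw [← QuotientGroup.eq_one_iff, ← QuotientGroup.mk'_apply, map_commutatorElement,
      commutatorElement_eq_one_iff_commute]
    obtain ⟨s, hs, z, hz, ha⟩ := hcover (μ a)
    obtain ⟨s', hs', z', hz', hb⟩ := hcover (μ b)
    show Commute (μ a) (μ b)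
    rw [ha, hb]
    have hss : Commute (μ s) (μ s') := by
      rw [← commutatorElement_eq_one_iff_commute, ← map_commutatorElement]
      exact (QuotientGroup.eq_one_iff _).2 (hSS s hs s' hs')
    exact (hss.mul_right (mem_center_iff.1 hz' _)).mul_left
      (show Commute z (μ s' * z') from (mem_center_iff.1 hz _).symm)
  refine le_antisymm hle fun x hx => ?_
  rcases le_or_gt 4 (Fintype.card F) with hq | hq
  · let ψ : Matrix.SpecialLinearGroup (Fin 2) F →* H := L.subtype.comp e.symm.toMonoidHom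
    have h1 : (commutator (Matrix.SpecialLinearGroup (Fin 2) F)).map ψ ≤ commutator H := by
      rw [_root_.commutator_def, _root_.commutator_def, map_commutator]
      exact commutator_mono le_top le_top
    rw [CfsgLib.KnownA.PSLMultiplier.sl_two_perfect hq] at h1
    exact h1 ⟨e ⟨x, hx⟩, trivial, by simp [ψ]⟩
  · have h3 : Fintype.card F = 3 := by
      have := Fintype.one_lt_card (α := F)
      obtain ⟨j, hj⟩ := hodd
      omega
    haveI : Fact (Nat.Prime 3) := ⟨Nat.prime_three⟩
    have hL24 : Nat.card ↥L = 24 := by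
      rw [Nat.card_congr e.toEquiv, card_eq_card_quotient_mul_card_subgroup (center _), hc2]
      have h1 : 2 * Nat.card (Matrix.ProjectiveSpecialLinearGroup (Fin 2) F) = _ :=
        CfsgLib.KGroups.AbelianTwo.card_psl2_odd hodd
      rw [h3] at h1
      norm_num at h1
      show Nat.card (Matrix.ProjectiveSpecialLinearGroup (Fin 2) F) * 2 = 24
      rw [Nat.card_eq_fintype_card]; omega
    -- `H` induces an outer automorphism
    obtain ⟨h, hh⟩ : ∃ h : H, f h ∉ (inn : Subgroup (MulAut _)) := by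
      by_contra hall
      push Not at hall
      have hle8 : Nat.card ↥((S : Subgroup H) ⊓ L) ≤ 8 := by
        obtain ⟨P, hP⟩ := CfsgLib.NT.SylowCount.exists_sylow_inf S L
        rw [← hP, card_map_of_injective L.subtype_injective]
        obtain ⟨j, hj⟩ := P.2.exists_card_eq
        have h2 : 2 ^ j ∣ 2 ^ 3 * 3 := by
          have h5 := card_subgroup_dvd_card (P : Subgroup L)
          rw [hj, hL24] at h5
          exact h5
        have h3' := (Nat.Coprime.dvd_mul_right (Nat.Coprime.pow_left j (by norm_num))).1 h2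
        rw [hj]
        exact Nat.le_of_dvd (by norm_num) h3'
      set T := (S : Subgroup H) ⊓ L
      have hsurj : ∀ s : ↥(S : Subgroup H), ∃ p : ↥T × ↥C, (p.1 : H) * p.2 = s := by
        intro s
        obtain ⟨l, hl, hfl⟩ := hinn.ge (hall (s : H))
        have h1 : l⁻¹ * (s : H) ∈ C := hker (by rw [MonoidHom.mem_ker, map_mul, map_inv, hfl, inv_mul_cancel])
        refine ⟨(⟨l, ?_, hl⟩, ⟨_, h1⟩), mul_inv_cancel_left l (s : H)⟩
        have h2 := (S : Subgroup H).mul_mem s.2 ((S : Subgroup H).inv_mem (hCS h1))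
        rwa [mul_inv_rev, inv_inv, mul_inv_cancel_left] at h2
      choose F' hF' using hsurj
      -- the involution of the centre is counted twice
      obtain ⟨z, hz1, hzT, hzC⟩ : ∃ z : H, z ≠ 1 ∧ z ∈ T ∧ z ∈ C := by
        have h1 : Nat.card (center ↥L) = 2 := by rw [Nat.card_congr (Subgroup.centerCongr e).toEquiv, hc2]
        obtain ⟨z, hz⟩ := exists_prime_orderOf_dvd_card' (G := center ↥L) 2 (by rw [h1])
        refine ⟨((z : ↥L) : H), fun h => ?_, ⟨hCS (hLz _ z.2), (z : ↥L).2⟩, hLz _ z.2⟩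
        rw [show z = 1 from Subtype.ext (Subtype.ext h), orderOf_one] at hz
        omega
      have hT1 : ∀ p : ↥T × ↥C, ∃ s : ↥(S : Subgroup H), (p.1 : H) * p.2 = s := fun p =>
        ⟨⟨_, mul_mem p.1.2.1 (hCS p.2.2)⟩, rfl⟩
      have hcount : 2 * Nat.card ↥(S : Subgroup H) ≤ Nat.card (↥T × ↥C) := by
        rw [show 2 * Nat.card ↥(S : Subgroup H) = Nat.card (Bool × ↥(S : Subgroup H)) by simp]
        let g : Bool × ↥(S : Subgroup H) → ↥T × ↥C := fun q =>
          if q.1 then (⟨((F' q.2).1 : H) * z, mul_mem (F' q.2).1.2 hzT⟩,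
            ⟨z⁻¹ * (F' q.2).2, mul_mem (inv_mem hzC) (F' q.2).2.2⟩) else F' q.2
        refine Nat.card_le_card_of_injective g ?_
        have hval : ∀ q, ((g q).1 : H) * (g q).2 = q.2 := by
          rintro ⟨b, s⟩
          cases b
          · exact hF' s
          · show ((F' s).1 : H) * z * (z⁻¹ * ((F' s).2 : H)) = (s : H)
            rw [mul_assoc, mul_inv_cancel_left]
            exact hF' s
        intro q q' hqq
        have hs : q.2 = q'.2 := Subtype.ext (by rw [← hval q, ← hval q', hqq])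
        obtain ⟨b, s⟩ := q
        obtain ⟨b', s'⟩ := q'
        obtain rfl : s = s' := hs
        have h1 : ((g (b, s)).1 : H) = (g (b', s)).1 := by rw [hqq]
        cases b <;> cases b'
        · rfl
        · exact absurd (left_eq_mul.1 h1) hz1
        · exact absurd (mul_eq_left.1 h1) hz1
        · rfl
      rw [Nat.card_prod] at hcount
      have := Nat.mul_le_mul_right (Nat.card ↥C) hle8
      omega
    -- an element of order three in the derived subgroup
    have h3d : 3 ∣ Nat.card ↥((commutator H).subgroupOf L) := by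
      rw [Nat.card_congr (subgroupOfEquivOfLe hle).toEquiv]
      obtain ⟨a, ⟨a', rfl⟩, b, ⟨b', rfl⟩, hab⟩ := exists_commutator_three h3 (Y := f.range)
        (hinn ▸ map_le_range f L) ⟨h, rfl⟩ hh
      rw [← map_commutatorElement] at hab
      have h1 : ⁅a', b'⁆ ∈ commutator H := by
        rw [_root_.commutator_def]
        exact commutator_mem_commutator (mem_top a') (mem_top b')
      exact hab ▸ (orderOf_map_dvd f _).trans (orderOf_dvd_natCard _ h1)
    haveI : ((commutator H).subgroupOf L).Normal := inferInstance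
    have h2 : IsPGroup 2 (↥L ⧸ (commutator H).subgroupOf L) := by
      have hdvd : ((commutator H).subgroupOf L).index ∣ 2 ^ 3 := by
        have h4 := card_mul_index ((commutator H).subgroupOf L)
        rw [hL24] at h4
        obtain ⟨j, hj⟩ := h3d
        rw [hj] at h4
        exact ⟨j, by linarith⟩
      obtain ⟨i, -, hi⟩ := (Nat.dvd_prime_pow Nat.prime_two).1 hdvd
      exact IsPGroup.of_card (n := i) (by rw [← index_eq_card, hi])
    have h4 := hom_eq_one hodd h2 ((QuotientGroup.mk' _).comp e.symm.toMonoidHom) (e ⟨x, hx⟩)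
    rw [MonoidHom.comp_apply, MulEquiv.coe_toMonoidHom, e.symm_apply_apply] at h4
    exact mem_subgroupOf.1 ((QuotientGroup.eq_one_iff _).1 h4)

/-- The statement of S1240. -/
theorem qd_centralizer_commutator (hD : SimpleDihedral.{u}) {G : Type u} [Group G] [Finite G] (S : Sylow 2 G)
    (hS : Cfsg.IsQuasiDihedral (S : Subgroup G) ∨ Cfsg.IsWreathed (S : Subgroup G))
    (hG : ∀ K : Subgroup G, K.index ≠ 2) (t : G) (ht : orderOf t = 2) :
    ∃ (F : Type) (_ : Field F) (_ : Fintype F), Odd (Fintype.card F) ∧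
      Nonempty (↥(commutator (↥(centralizer ({t} : Set G)) ⧸ Cfsg.oddCore ↥(centralizer ({t} : Set G)))) ≃*
        Matrix.SpecialLinearGroup (Fin 2) F) := by
  classical
  haveI : Fact (Nat.Prime 2) := ⟨Nat.prime_two⟩
  obtain ⟨R, hR, ⟨K, hKn, ⟨a, ha⟩, hno, hQ⟩, -⟩ := Cfsg.Agent.S1213.result S hS hG t ht
  haveI := hKn
  set X := ↥(centralizer ({t} : Set G))
  set π := QuotientGroup.mk' (Cfsg.oddCore X) with hπ
  have hπs : Function.Surjective π := QuotientGroup.mk'_surjective _
  -- the Sylow subgroup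
  have hRG : Nat.card ↥((R : Subgroup X).map (centralizer ({t} : Set G)).subtype) =
      2 ^ (Nat.card G).factorization 2 := by
    rw [card_map_of_injective (centralizer ({t} : Set G)).subtype_injective, hR, S.card_eq_multiplicity]
  let R' := Sylow.ofCard _ hRG
  let eR : ↥(S : Subgroup G) ≃* ↥(R : Subgroup X) :=
    (Sylow.equiv S R').trans ((R : Subgroup X).equivMapOfInjective _ (centralizer ({t} : Set G)).subtype_injective).symm
  obtain ⟨eQ⟩ := sylow_quotient_core R
  set T := R.mapSurjective hπs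
  have hT : Cfsg.IsQuasiDihedral (T : Subgroup (X ⧸ Cfsg.oddCore X)) ∨
      Cfsg.IsWreathed (T : Subgroup (X ⧸ Cfsg.oddCore X)) :=
    hS.imp (CfsgLib.Fsys.SylowImage.quasiDihedral_congr (eR.trans eQ))
      (CfsgLib.Fsys.SylowImage.wreathed_congr (eR.trans eQ))
  -- the image of `K`
  haveI : (K.map π).Normal := hKn.map π hπs
  obtain ⟨b, -, hb⟩ := (Nat.dvd_prime_pow Nat.prime_two).1 (ha ▸ index_map_dvd K hπs : (K.map π).index ∣ 2 ^ a)
  set g := π.subgroupMap K
  have hgs : Function.Surjective g := π.subgroupMap_surjective K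
  have hnoK : ∀ M : Subgroup ↥(K.map π), M.index ≠ 2 := fun M hM =>
    hno (M.comap g) (by rw [index_comap_of_surjective _ hgs, hM])
  have hQK : ∀ P : Sylow 2 ↥(K.map π), ∃ m : ℕ, 1 ≤ m ∧
      Nonempty ((P : Subgroup ↥(K.map π)) ≃* QuaternionGroup (2 ^ m)) := by
    intro P
    obtain ⟨P0⟩ : Nonempty (Sylow 2 ↥K) := inferInstance
    obtain ⟨m, hm, ⟨e0⟩⟩ := hQ P0
    have hinj : Function.Injective (g.subgroupMap (P0 : Subgroup ↥K)) := by
      rw [injective_iff_map_eq_one]
      intro x hx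
      have h1 : ((x : ↥K) : X) ∈ Cfsg.oddCore X :=
        (QuotientGroup.eq_one_iff _).1 (congrArg (fun y : ↥((P0 : Subgroup ↥K).map g) => ((y : ↥(K.map π)) : X ⧸ Cfsg.oddCore X)) hx)
      obtain ⟨j, hj⟩ := P0.2 x
      have hodd : Odd (Nat.card (Cfsg.oddCore X)) :=
        Nat.coprime_two_right.1 (CfsgLib.Solvable.Cores.coprime_card_pPrimeCore 2)
      refine Subtype.ext (Subtype.ext (orderOf_eq_one_iff.1 (Nat.eq_one_of_dvd_coprimes
        ((Nat.coprime_two_left.2 (hodd.of_dvd_nat (Subgroup.orderOf_dvd_natCard _ h1))).pow_left j)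
        (orderOf_dvd_of_pow_eq_one (congrArg (fun y : ↥(P0 : Subgroup ↥K) => ((y : ↥K) : X)) hj)) dvd_rfl)))
    exact ⟨m, hm, ⟨(Sylow.equiv P (P0.mapSurjective hgs)).trans
      ((MulEquiv.ofBijective _ ⟨hinj, g.subgroupMap_surjective _⟩).symm.trans e0)⟩⟩
  have hO : Cfsg.oddCore (X ⧸ Cfsg.oddCore X) = ⊥ :=
    CfsgLib.Coprime.OneClassInvolutions.pPrimeCore_quotient_self
  obtain ⟨L, hLn, ⟨F, i1, i2, hodd, ⟨e⟩⟩, -⟩ := qd_sl2 hD T hT hO (K.map π) hb hnoK hQK
  haveI := hLn
  exact ⟨F, i1, i2, hodd, ⟨(MulEquiv.subgroupCongr (commutator_eq T hT hO L hodd e)).trans e⟩⟩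

end CfsgLib.GWDihedral.Consumers.InvolCentralizer
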