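import Cfsg.Agent.Lib.GWDihedral.ModelOuter

/-!
# Two outer involutions of `PGL(2,q)`

The centraliser in `PGL(2,q)`, `q` odd, of an involution outside `PSL(2,q)` is a maximal subgroup,
so two commuting ones generate `PGL(2,q)` together with their centralisers.
`eq_top_of_two_involutions` is the consequence for automorphisms of `PSL(2,q)`.
-/

set_option autoImplicit false
set_option linter.unusedSectionVars false
set_option linter.style.haveILetI false

namespace CfsgLib.GWDihedral.OuterTorus

open Matrix Subgroup CfsgLib.KnownC.AutPSL CfsgLib.Classical.Dickson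
open scoped MatrixGroups

variable {F : Type} [Field F] [Fintype F] [DecidableEq F] {p : ℕ} [hp : Fact p.Prime] [CharP F p]

local notation "PG" => Matrix.ProjGenLinGroup (Fin 2) F

theorem index_sln_two (hodd : Fintype.card F % 2 = 1) : (sln F).index = 2 := by
  rw [index_sln]
  rcases dd_cases (F := F) with h | h <;> omega

/-- The torus of an involution outside `PSL(2,q)`. -/
structure Outer {F : Type} [Field F] [Fintype F] [DecidableEq F]
    (u : Matrix.ProjGenLinGroup (Fin 2) F) : Prop where
  two : orderOf u = 2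
  not_mem : u ∉ sln F

variable {u : Matrix.ProjGenLinGroup (Fin 2) F} (hu : Outer u) (hodd : Fintype.card F % 2 = 1) (hq : 4 ≤ Fintype.card F)
include hu hodd hq

theorem pow_p_ne : u ^ p ≠ 1 :=
  pow_ne_one_of_semisimple (not_dvd_orderOf_involution p hodd hu.two) (fun e => by simpa [e] using hu.two)

theorem mem_torus : u ∈ torus p ⊤ u := ⟨Subgroup.mem_top u, fun _ hz => hz⟩

/-- The only involution of the torus. -/
theorem eq_of_mem_torus {w : PG} (hw : w ∈ torus p ⊤ u) (hw2 : orderOf w = 2) : w = u := by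
  haveI := isCyclic_torus (Γ := (⊤ : Subgroup PG)) (pow_p_ne (p := p) hu hodd hq)
  set T := torus p (⊤ : Subgroup PG) u
  by_contra hne
  classical
  haveI := Fintype.ofFinite T
  have hb := IsCyclic.card_pow_eq_one_le (α := T) (n := 2) two_pos
  have hsub : ({1, ⟨u, mem_torus hu hodd hq⟩, ⟨w, hw⟩} : Finset T) ⊆
      Finset.univ.filter fun x => x ^ 2 = 1 := by
    intro x hx
    simp only [Finset.mem_filter, Finset.mem_univ, true_and]
    simp only [Finset.mem_insert, Finset.mem_singleton] at hx
    rcases hx with rfl | rfl | rfl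
    · exact one_pow 2
    · exact Subtype.ext (by push_cast; rw [pow_two]; exact Involution.Dihedral.mul_self hu.two)
    · exact Subtype.ext (by push_cast; rw [pow_two]; exact Involution.Dihedral.mul_self hw2)
  have h3 := (Finset.card_le_card hsub).trans hb
  rw [Finset.card_insert_of_notMem, Finset.card_pair] at h3
  · omega
  · exact fun e => hne (congrArg Subtype.val e).symm
  · simp only [Finset.mem_insert, Finset.mem_singleton]
    rintro (e | e)
    · exact Involution.Dihedral.ne_one hu.two (congrArg Subtype.val e).symm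
    · exact Involution.Dihedral.ne_one hw2 (congrArg Subtype.val e).symm

/-- A generator of the torus has order `q ± 1`, at least 6. -/
theorem exists_generator : ∃ c ∈ torus p ⊤ u, orderOf c = Nat.card (torus p ⊤ u) ∧
    (orderOf c = Fintype.card F - 1 ∨ orderOf c = Fintype.card F + 1) ∧ 6 ≤ orderOf c := by
  have hc := not_dvd_orderOf_involution p hodd hu.two
  have h1 : u ≠ 1 := Involution.Dihedral.ne_one hu.two
  haveI := isCyclic_torus (Γ := (⊤ : Subgroup PG)) (pow_p_ne (p := p) hu hodd hq)
  obtain ⟨⟨c, hcT⟩, hgen⟩ := IsCyclic.exists_generator (α := torus p (⊤ : Subgroup PG) u)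
  have hcord : orderOf c = Nat.card (torus p ⊤ u) := by
    rw [← orderOf_eq_card_of_forall_mem_zpowers hgen, Subgroup.orderOf_mk]
  obtain ⟨z, z', -, -, -, hcases⟩ := torus_data p (Or.inl rfl) hq hc h1 (Subgroup.mem_top u)
  have hk : orderOf c = Fintype.card F - 1 ∨ orderOf c = Fintype.card F + 1 := by
    rcases hcases with ⟨-, e⟩ | ⟨-, e⟩ <;> rw [index_top, mul_one, ← hcord] at e
    · exact Or.inl e
    · exact Or.inr e
  refine ⟨c, hcT, hcord, hk, ?_⟩
  by_contra h6
  -- otherwise `u = c ^ 2` would be in `PSL(2,q)`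
  have h4 : orderOf c = 4 := by omega
  refine hu.not_mem ?_
  rw [← eq_of_mem_torus hu hodd hq (pow_mem hcT 2)
    (by rw [orderOf_pow_of_dvd two_ne_zero (by omega), h4]), pow_two]
  exact mul_self_mem_of_index_two (index_sln_two hodd) c

theorem sq_eq_one {g : PG} (hg : g ∈ pairStab p ⊤ u) (hgT : g ∉ torus p ⊤ u) : g * g = 1 := by
  obtain ⟨-, -, -, -, -, hsq, -, -, -⟩ := pairStab_data p (Or.inl rfl) hq
    (not_dvd_orderOf_involution p hodd hu.two) (Involution.Dihedral.ne_one hu.two) (Subgroup.mem_top u)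
  exact hsq g hg hgT

/-- The stabiliser of the fixed pair is the centraliser. -/
theorem pairStab_iff {g : PG} : g ∈ pairStab p ⊤ u ↔ Commute g u := by
  have hcp := pow_p_ne (p := p) hu hodd hq
  refine ⟨fun hg => ?_, fun h => mem_pairStab_of_conj p (Subgroup.mem_top g) ?_⟩
  · by_cases hgT : g ∈ torus p ⊤ u
    · haveI := isCyclic_torus (Γ := (⊤ : Subgroup PG)) hcp
      haveI : IsMulCommutative (torus p (⊤ : Subgroup PG) u) := IsCyclic.isMulCommutative
      exact congrArg Subtype.val (mul_comm' (⟨g, hgT⟩ : torus p ⊤ u) ⟨u, mem_torus hu hodd hq⟩)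
    · have hgu : g * u ∉ torus p ⊤ u := fun h' => hgT (by
        simpa using mul_mem h' (inv_mem (mem_torus hu hodd hq)))
      have h1 := sq_eq_one hu hodd hq hg hgT
      have h2 := sq_eq_one hu hodd hq
        (mul_mem hg (torus_le_pairStab hcp (mem_torus hu hodd hq))) hgu
      show g * u = u * g
      rw [← inv_eq_of_mul_eq_one_right h2, _root_.mul_inv_rev, inv_eq_of_mul_eq_one_right h1,
        inv_eq_of_mul_eq_one_right (Involution.Dihedral.mul_self hu.two)]
  · rw [h.eq, mul_inv_cancel_right]
    exact Subgroup.mem_zpowers u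

/-- The centraliser is maximal. -/
theorem eq_or_top {L : Subgroup PG} (hL : pairStab p ⊤ u ≤ L) :
    L = ⊤ ∨ L = pairStab p ⊤ u := by
  refine or_iff_not_imp_left.2 fun hne => ?_
  classical
  have hΓ : IsBig (⊤ : Subgroup PG) := Or.inl rfl
  have hcu := not_dvd_orderOf_involution p hodd hu.two
  have hu1 := Involution.Dihedral.ne_one hu.two
  have hcp := pow_p_ne (p := p) hu hodd hq
  obtain ⟨M, hLM, hM⟩ := exists_maxIn_ge (le_top (a := L)) hne
  refine le_antisymm (hLM.trans ?_) hL
  obtain ⟨c, hcT, hcord, hk, h6⟩ := exists_generator (p := p) hu hodd hq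
  obtain ⟨h, hh, -, -, hinv, -, hNcard, -, -⟩ := pairStab_data p hΓ hq hcu hu1 (Subgroup.mem_top u)
  have hcM : c ∈ M := hLM (hL (torus_le_pairStab hcp hcT))
  have hhM : h ∈ M := hLM (hL hh)
  have hcpp : ¬ p ∣ orderOf c := hcord ▸ not_dvd_torus hcp
  have hc1 : c ≠ 1 := fun e => by rw [e, orderOf_one] at h6; omega
  have hsmall : ∀ n : ℕ, 0 < n → n ≤ 5 → c ^ n = 1 → False := fun n hn h5 e => by
    have := orderOf_le_of_pow_eq_one hn e
    omega
  have hsne := sln_ne_top_of_odd (F := F) hodd
  have huM : u ∈ M := hLM (hL (torus_le_pairStab hcp (mem_torus hu hodd hq)))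
  have hnle : ¬ sln F ≤ M := fun hle => hM.ne (eq_top_iff.2 fun x _ => by
    by_cases hx : x ∈ sln F
    · exact hle hx
    · have := hle ((Subgroup.mul_mem_iff_of_index_two (index_sln_two hodd)).2
        (iff_of_false hx fun h' => hu.not_mem (by simpa using inv_mem h')) : x * u⁻¹ ∈ sln F)
      simpa using mul_mem this huM)
  cases maxKind p hΓ hq hM hnle with
  | stab x hM' =>
    exfalso
    exact not_fixed_dihedral p hcpp (by omega) (hinv c hcT) x (mem_stabIn.1 (hM'.le hcM)).2
      (mem_stabIn.1 (hM'.le hhM)).2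
  | tori c' hc' hc1' hc'Γ hM' =>
    obtain ⟨-, -, -, -, -, hsq, hcard, -, -⟩ := pairStab_data p hΓ hq hc' hc1' hc'Γ
    obtain ⟨-, -, -, -, -, hcases⟩ := torus_data p hΓ hq hc' hc1' hc'Γ
    have hcT' : c ∈ torus p ⊤ c' := by
      by_contra hmem
      exact hsmall 2 two_pos (by norm_num) (by rw [pow_two]; exact hsq c (hM' ▸ hcM) hmem)
    have hdvd : orderOf c ∣ Nat.card (torus p ⊤ c') := by
      have := orderOf_dvd_natCard (⟨c, hcT'⟩ : torus p ⊤ c')
      rwa [← Subgroup.orderOf_coe] at this
    have hk' : Nat.card (torus p ⊤ c') = Fintype.card F - 1 ∨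
        Nat.card (torus p ⊤ c') = Fintype.card F + 1 := by
      rcases hcases with ⟨-, e⟩ | ⟨-, e⟩ <;> rw [index_top, mul_one] at e
      · exact Or.inl e
      · exact Or.inr e
    have heq : Nat.card (torus p ⊤ c') = Nat.card (torus p ⊤ u) := by
      rw [← hcord]
      rcases hk' with e | e <;> rcases hk with e' | e' <;> rw [e, e'] at hdvd ⊢
      · exact absurd (Nat.le_of_dvd (by omega) hdvd) (by omega)
      · have := Nat.dvd_sub hdvd (dvd_refl (Fintype.card F - 1))
        rw [show Fintype.card F + 1 - (Fintype.card F - 1) = 2 by omega] at this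
        exact absurd (Nat.le_of_dvd two_pos this) (by omega)
    exact (Subgroup.eq_of_le_of_card_ge (hL.trans hLM) (by rw [hM', hcard, hNcard, heq])).ge
  | a4 hΓ' _ _ _ _ => exact absurd hΓ'.symm hsne
  | s4 _ _ _ _ hiso =>
    obtain ⟨f⟩ := hiso
    rcases exps_s4 f c hcM with e | e | e
    exacts [(hsmall 2 (by norm_num) (by norm_num) e).elim, (hsmall 3 (by norm_num) (by norm_num) e).elim,
      (hsmall 4 (by norm_num) (by norm_num) e).elim]
  | a5 hΓ' _ _ _ => exact absurd hΓ'.symm hsne
  | pgl A r g hr hd hA _ htop hMA =>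
    exfalso
    have hrodd := htop hodd rfl
    have hb : orderOf c ≤ Nat.card A + 1 := by
      have e := orderOf_le_of_rat p (A := A) (c := MulAut.conj g c)
        (by rwa [MulEquiv.orderOf_eq]) (hMA ▸ ⟨c, hcM, rfl⟩)
      rwa [MulEquiv.orderOf_eq] at e
    have hr3 : 3 ≤ r := by rcases hrodd with ⟨n, hn⟩; have := hr.two_le; omega
    have hs : Nat.card A * Nat.card A * Nat.card A ≤ Fintype.card F := by
      rw [hd, show Nat.card A * Nat.card A * Nat.card A = Nat.card A ^ 3 by ring]
      exact Nat.pow_le_pow_right (by omega) hr3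
    have : 3 * 3 * Nat.card A ≤ Nat.card A * Nat.card A * Nat.card A :=
      Nat.mul_le_mul_right _ (Nat.mul_le_mul hA hA)
    omega
  | psl A r g hr hd hΓ' _ _ _ => exact absurd hΓ'.symm hsne

/-- Two commuting involutions outside `PSL(2,q)` generate with their centralisers. -/
theorem eq_top_of_two {v : PG} (hv : Outer v) (huv : u ≠ v) (hc : Commute u v) {K : Subgroup PG}
    (hKu : pairStab p ⊤ u ≤ K) (hKv : pairStab p ⊤ v ≤ K) : K = ⊤ := by
  rcases eq_or_top hu hodd hq hKu with e | e
  · exact e
  rcases eq_or_top hv hodd hq hKv with e' | e'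
  · exact e'
  exfalso
  have hvN : v ∈ pairStab p ⊤ u := (pairStab_iff hu hodd hq).2 hc.symm
  have hvT : v ∉ torus p ⊤ u := fun h => huv (eq_of_mem_torus hu hodd hq h hv.two).symm
  obtain ⟨c, hcT, -, -, h6⟩ := exists_generator (p := p) hu hodd hq
  have hcp := pow_p_ne (p := p) hu hodd hq
  have hcN : c ∈ pairStab p ⊤ u := torus_le_pairStab hcp hcT
  have hcv : Commute c v := (pairStab_iff hv hodd hq).1 (e' ▸ e.symm ▸ hcN)
  have hvc : v * c ∉ torus p ⊤ u := fun h => hvT (by simpa using mul_mem h (inv_mem hcT))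
  have h1 := sq_eq_one hu hodd hq (mul_mem hvN hcN) hvc
  rw [show v * c * (v * c) = v * (c * v) * c by group, hcv.eq, ← mul_assoc,
    Involution.Dihedral.mul_self hv.two, one_mul] at h1
  have := orderOf_le_of_pow_eq_one two_pos (show c ^ 2 = 1 by rw [pow_two]; exact h1)
  omega

end CfsgLib.GWDihedral.OuterTorus
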