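import Cfsg.Agent.Lib.GWDihedral.Statement
import Cfsg.Agent.Lib.Classical.Dickson.DihedralMax
import Cfsg.Agent.Lib.Involution.DihedralSylowClasses
import Cfsg.Agent.Lib.Involution.SelfCentNoncyclicMain
import Cfsg.Agent.Lib.Solvable.Cores
import Cfsg.Agent.Lib.Components.Quasisimple
import Cfsg.Agent.Lib.Recognition.SparseOrders.Simple
import Cfsg.Agent.S0253
import Cfsg.Agent.S0255
import Cfsg.Prelude.Def_Local

/-!
# Involution centralisers inside larger subgroups when the Sylow 2-subgroup is dihedral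

The centraliser of an involution is maximal in `PSL(2,q)`, `q` odd, unless `q ≤ 9`.
-/

set_option autoImplicit false
set_option linter.style.haveILetI false
set_option linter.unusedSectionVars false

namespace CfsgLib.GWDihedral.Consumers

open Subgroup CfsgLib.Involution

universe u

/-- For odd `q ≥ 11` some involution centraliser of `PSL(2,q)` is maximal. -/
theorem exists_maximal_centralizer {F : Type} [Field F] [Fintype F] (hodd : Odd (Fintype.card F))
    (h11 : 11 ≤ Fintype.card F) :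
    ∃ z : Matrix.ProjectiveSpecialLinearGroup (Fin 2) F, orderOf z = 2 ∧
      IsCoatom (centralizer ({z} : Set (Matrix.ProjectiveSpecialLinearGroup (Fin 2) F))) := by
  classical
  obtain ⟨f, hp, hq⟩ := FiniteField.card F (ringChar F)
  haveI : Fact (ringChar F).Prime := ⟨hp⟩
  set q := Fintype.card F with hqd
  have ho : q % 2 = 1 := Nat.odd_iff.1 hodd
  have hdd : CfsgLib.Classical.Dickson.dd F = 2 := by
    rcases CfsgLib.Classical.Dickson.dd_cases (F := F) with ⟨-, h⟩ | ⟨h, -⟩
    · omega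
    · exact h
  obtain ⟨S, hS, hSe⟩ : ∃ S, CfsgLib.Classical.Dickson.MaxIn (CfsgLib.Classical.Dickson.sln F) S ∧
      ∃ j, 3 ≤ j ∧ Nonempty (S ≃* DihedralGroup (2 * j)) := by
    rcases (show q % 4 = 1 ∨ q % 4 = 3 by omega) with h | h
    · obtain ⟨S, h1, h2⟩ := CfsgLib.Classical.Dickson.dihedral_maxIn (ringChar F) (n := q - 1) (k := (q - 1) / 2)
        (Or.inr ⟨rfl, by simp; omega⟩) (by rw [hdd]; omega)
      exact ⟨S, h1, (q - 1) / 4, by omega, by rwa [show 2 * ((q - 1) / 4) = (q - 1) / 2 by omega]⟩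
    · obtain ⟨S, h1, h2⟩ := CfsgLib.Classical.Dickson.dihedral_maxIn (ringChar F) (n := q + 1) (k := (q + 1) / 2)
        (Or.inl ⟨rfl, by simp; omega⟩) (by rw [hdd]; omega)
      exact ⟨S, h1, (q + 1) / 4, by omega, by rwa [show 2 * ((q + 1) / 4) = (q + 1) / 2 by omega]⟩
  obtain ⟨j, hj, eS⟩ := hSe
  haveI : NeZero (2 * j) := ⟨by omega⟩
  obtain ⟨H, hH, ⟨e⟩⟩ := CfsgLib.Classical.Dickson.exists_coatom_psl hS eS
  set c : DihedralGroup (2 * j) := .r (j : ZMod (2 * j)) with hc
  have hjj : (j : ZMod (2 * j)) + j = 0 := by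
    rw [← Nat.cast_add, ← two_mul, ZMod.natCast_self]
  have hj0 : (j : ZMod (2 * j)) ≠ 0 := fun h0 => by
    rw [ZMod.natCast_eq_zero_iff] at h0
    have := Nat.le_of_dvd (by omega) h0
    omega
  have hco : orderOf c = 2 := orderOf_eq_prime (by rw [pow_two, hc, DihedralGroup.r_mul_r, hjj, DihedralGroup.one_def])
    (fun h0 => hj0 (by rw [hc, DihedralGroup.one_def] at h0; exact DihedralGroup.r.inj h0))
  have hcc : ∀ d : DihedralGroup (2 * j), d * c = c * d := by
    rintro (i | i)
    · rw [hc, DihedralGroup.r_mul_r, DihedralGroup.r_mul_r, add_comm]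
    · rw [hc, DihedralGroup.sr_mul_r, DihedralGroup.r_mul_sr, sub_eq_add_neg, neg_eq_of_add_eq_zero_left hjj]
  set z : H := e.symm c with hz
  have hzo : orderOf (z : Matrix.ProjectiveSpecialLinearGroup (Fin 2) F) = 2 := by
    rw [Subgroup.orderOf_coe, hz, MulEquiv.orderOf_eq, hco]
  have hle : H ≤ centralizer ({(z : Matrix.ProjectiveSpecialLinearGroup (Fin 2) F)} : Set _) := fun x hx => by
    rw [mem_centralizer_singleton_iff]
    have h1 := congrArg e.symm (hcc (e ⟨x, hx⟩))
    rw [map_mul, map_mul, e.symm_apply_apply] at h1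
    exact congrArg Subtype.val h1
  refine ⟨z, hzo, ?_⟩
  refine ((hH.le_iff.1 hle).resolve_left fun htop => ?_).symm.subst (motive := IsCoatom) hH
  haveI : IsSimpleGroup (Matrix.ProjectiveSpecialLinearGroup (Fin 2) F) :=
    CfsgLib.Classical.psl_fin_isSimpleGroup le_rfl fun _ => by omega
  have hzc : (z : Matrix.ProjectiveSpecialLinearGroup (Fin 2) F) ∈ center _ := mem_center_iff.2 fun g =>
    (mem_centralizer_singleton_iff.1 (htop ▸ mem_top g : g ∈ centralizer ({(z : Matrix.ProjectiveSpecialLinearGroup (Fin 2) F)} : Set _)))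
  rcases (inferInstance : (center (Matrix.ProjectiveSpecialLinearGroup (Fin 2) F)).Normal).eq_bot_or_eq_top with h0 | h0
  · rw [h0, mem_bot] at hzc
    rw [hzc, orderOf_one] at hzo
    omega
  · haveI : IsMulCommutative (Matrix.ProjectiveSpecialLinearGroup (Fin 2) F) :=
      ⟨⟨fun x y => mem_center_iff.1 (h0 ▸ mem_top y) x⟩⟩
    have hZe : ∀ a b : DihedralGroup (2 * j), a * b = b * a := fun a b => by
      have h1 : e.symm a * e.symm b = e.symm b * e.symm a := Subtype.ext (mul_comm' _ _)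
      exact e.symm.injective (by rw [map_mul, map_mul, h1])
    have h2 := hZe (.r 1) (.sr 0)
    simp only [DihedralGroup.r_mul_sr, DihedralGroup.sr_mul_r, DihedralGroup.sr.injEq] at h2
    have h3 : ((2 : ℕ) : ZMod (2 * j)) = 0 := by
      push_cast
      linear_combination -h2
    rw [ZMod.natCast_eq_zero_iff] at h3
    have := Nat.le_of_dvd two_pos h3
    omega

/-- A group isomorphic to a non-abelian simple group has `F* ≠ F`. -/
theorem gfit_ne_fit {K : Type u} [Group K] [Finite K] [IsSimpleGroup K] (hna : ¬ IsMulCommutative K) :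
    Cfsg.generalizedFittingSubgroup K ≠ Cfsg.fittingSubgroup K := by
  intro h
  have hc : center K = ⊥ := ((inferInstance : (center K).Normal).eq_bot_or_eq_top).resolve_right
    fun h0 => hna ⟨⟨fun x y => mem_center_iff.1 (h0 ▸ mem_top y) x⟩⟩
  have hperf : commutator K = ⊤ := by
    rcases (inferInstance : (commutator K).Normal).eq_bot_or_eq_top with h0 | h0
    · exact absurd ⟨⟨fun x y => mem_center_iff.1 ((commutator_eq_bot_iff_center_eq_top _).1 h0 ▸ mem_top y) x⟩⟩ hna
    · exact h0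
  haveI : Group.IsPerfect K := ⟨hperf⟩
  have hcomp : Cfsg.IsComponent (⊤ : Subgroup K) := by
    refine ⟨Subgroup.IsSubnormal.top, ?_⟩
    have hq : IsSimpleGroup (K ⧸ center K) :=
      ((QuotientGroup.quotientMulEquivOfEq hc).trans QuotientGroup.quotientBot).isSimpleGroup_congr.2 inferInstance
    exact (CfsgLib.Components.isQuasisimple_congr (topEquiv (G := K))).2 ⟨inferInstance, hq⟩
  have hle : (⊤ : Subgroup K) ≤ Cfsg.fittingSubgroup K := h ▸ (le_sSup (s := {L | Cfsg.IsComponent L}) hcomp).trans le_sup_left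
  haveI : Group.IsNilpotent K := (CfsgLib.Solvable.Cores.fittingSubgroup_eq_top_iff).1 (top_le_iff.1 hle)
  exact hna ⟨⟨IsSimpleGroup.comm_iff_isSolvable.2 inferInstance⟩⟩

/-- The statement of S3287. -/
theorem centralizer_lt (hD : SimpleDihedral.{u}) {G : Type u} [Group G] [Finite G] [IsSimpleGroup G]
    (S : Sylow 2 G) (m : ℕ) (eS : ↥(S : Subgroup G) ≃* DihedralGroup m)
    (t : G) (ht : orderOf t = 2) (K : Subgroup G) (hlt : centralizer ({t} : Set G) < K)
    (hK : Cfsg.generalizedFittingSubgroup ↥K = Cfsg.fittingSubgroup ↥K) :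
    Nonempty (G ≃* ↥(alternatingGroup (Fin 5))) ∨ Nonempty (G ≃* ↥(alternatingGroup (Fin 7))) ∨
      (∃ (F : Type) (_ : Field F) (_ : Fintype F), Fintype.card F = 2 ∧ Nonempty (G ≃* Matrix.ProjectiveSpecialLinearGroup (Fin 3) F)) ∨
      (∃ (F : Type) (_ : Field F) (_ : Fintype F), Fintype.card F = 9 ∧ Nonempty (G ≃* Matrix.ProjectiveSpecialLinearGroup (Fin 2) F)) := by
  classical
  haveI : Fact (Nat.Prime 2) := ⟨Nat.prime_two⟩
  have hna : ¬ IsMulCommutative G := fun h => by
    refine hlt.ne (le_antisymm hlt.le fun x _ => ?_)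
    rw [mem_centralizer_singleton_iff]
    exact h.is_comm.comm _ _
  have hKtop : K ≠ ⊤ := fun h => by
    subst h
    haveI : IsSimpleGroup ↥(⊤ : Subgroup G) := topEquiv.isSimpleGroup_congr.2 inferInstance
    refine gfit_ne_fit (fun hc => hna ⟨⟨fun x y => ?_⟩⟩) hK
    exact congrArg Subtype.val (hc.is_comm.comm ⟨x, mem_top x⟩ ⟨y, mem_top y⟩)
  have hm : 2 ≤ m := by
    rcases m with _ | _ | m
    · haveI : Finite (DihedralGroup 0) := Finite.of_equiv _ eS.toEquiv
      exact (not_finite (DihedralGroup 0)).elim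
    · refine absurd ?_ hna
      refine ⟨⟨IsSimpleGroup.comm_iff_isSolvable.2 (CfsgLib.Recognition.SparseOrders.isSolvable_of_sylow_le_two S ?_)⟩⟩
      rw [Nat.card_congr eS.toEquiv, DihedralGroup.nat_card]
    · omega
  rcases hD G hna S m hm ⟨eS⟩ with ⟨F, i1, i2, hodd, h3, ⟨e⟩⟩ | h7
  swap
  · exact Or.inr (Or.inl h7)
  have hq2 : Fintype.card F % 2 = 1 := Nat.odd_iff.1 hodd
  rcases (show Fintype.card F = 5 ∨ Fintype.card F = 7 ∨ Fintype.card F = 9 ∨ 11 ≤ Fintype.card F by omega) with h | h | h | h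
  · obtain ⟨e5⟩ := Cfsg.Agent.S0253.result h
    exact Or.inl ⟨e.trans e5⟩
  · obtain ⟨e7⟩ := Cfsg.Agent.S0255.result (K := ZMod 2) h (ZMod.card 2)
    exact Or.inr (Or.inr (Or.inl ⟨ZMod 2, inferInstance, inferInstance, ZMod.card 2, ⟨e.trans e7⟩⟩))
  · exact Or.inr (Or.inr (Or.inr ⟨F, i1, i2, h, ⟨e⟩⟩))
  exfalso
  obtain ⟨z, hzo, hz⟩ := exists_maximal_centralizer hodd h
  obtain ⟨a, b, k, hgen, -, -⟩ := DihedralSylow.exists_gen S m hm eS
  obtain ⟨g, hg⟩ := isConj_iff.1 (DihedralSylow.all_conj_of_no_index_two hgen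
    (CfsgLib.Involution.SelfCentNoncyclic.index_ne_two hna) (e.symm z) t
    ((MulEquiv.orderOf_eq e.symm z).trans hzo) ht)
  let f : Matrix.ProjectiveSpecialLinearGroup (Fin 2) F ≃* G := e.symm.trans (MulAut.conj g)
  have hfz : f z = t := hg
  have hC : (centralizer ({z} : Set _)).map f.toMonoidHom = centralizer ({t} : Set G) := by
    ext x
    rw [mem_map_equiv, mem_centralizer_singleton_iff, mem_centralizer_singleton_iff, ← hfz]
    conv_rhs => rw [← f.apply_symm_apply x, ← map_mul, ← map_mul, f.injective.eq_iff]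
  have hco : IsCoatom (centralizer ({t} : Set G)) := by
    rw [← hC]
    exact (OrderIso.isCoatom_iff f.mapSubgroup _).2 hz
  exact hKtop (hco.2 K hlt)

end CfsgLib.GWDihedral.Consumers
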