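import Cfsg.Agent.Lib.GWDihedral.Consumers.WreathedSeven
import Cfsg.Agent.Lib.GWDihedral.Consumers.Perfect
import Cfsg.Agent.Lib.Involution.SelfCentNoncyclicMain
import Cfsg.Agent.Lib.GWDihedral.Consumers.Quaternion
import Cfsg.Agent.Lib.GWKlein.Consumers.DoubleCover
import Cfsg.Agent.Lib.Recognition.NearField.SL23
import Cfsg.Agent.Lib.Involution.BrauerFowler

/-!
# Quasi-dihedral or wreathed Sylow 2-subgroups and a quaternion normal subgroup

A normal subgroup of 2-power index with quaternion Sylow 2-subgroups and no subgroup of index two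
contains exactly one normal `SL(2,q)`.
-/

set_option autoImplicit false
set_option linter.style.haveILetI false
set_option linter.unusedSectionVars false

namespace CfsgLib.GWDihedral.Consumers

open Subgroup CfsgLib.Involution
open scoped commutatorElement

universe u

variable {H : Type u} [Group H] [Finite H]

/-- `SL(2,q)`, `q` odd, lies in every normal subgroup of index a power of two. -/
theorem sl2_le {K L : Subgroup H} [K.Normal] {a : ℕ} (hK : K.index = 2 ^ a)
    {F : Type} [Field F] [Fintype F] (hodd : Odd (Fintype.card F))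
    (e : ↥L ≃* Matrix.SpecialLinearGroup (Fin 2) F) : L ≤ K := by
  classical
  let ψ : Matrix.SpecialLinearGroup (Fin 2) F →* H ⧸ K :=
    (QuotientGroup.mk' K).comp (L.subtype.comp e.symm.toMonoidHom)
  have h2 : IsPGroup 2 (H ⧸ K) := IsPGroup.of_card (n := a) (by rw [← index_eq_card, hK])
  obtain ⟨f, hp, hq⟩ := FiniteField.card F (ringChar F)
  have hp2 : ¬ 2 ∣ ringChar F := fun h => hodd.not_two_dvd_nat (hq ▸ dvd_pow h f.ne_zero)
  have htop : ψ.ker = ⊤ := by
    refine CfsgLib.Classical.sl_subgroup_eq_top _ fun i j hij c => ?_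
    rw [MonoidHom.mem_ker, ← orderOf_eq_one_iff]
    have hpow : ∀ m : ℕ, Matrix.SpecialLinearGroup.transvection hij c ^ m =
        Matrix.SpecialLinearGroup.transvection hij ((m : F) * c) := by
      intro m
      induction m with
      | zero => simp [Matrix.SpecialLinearGroup.transvection_coeff_zero]
      | succ m ih =>
        rw [pow_succ, ih, ← Matrix.SpecialLinearGroup.transvection_add, Nat.cast_succ, add_mul, one_mul]
    have h1 : Matrix.SpecialLinearGroup.transvection hij c ^ ringChar F = 1 := by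
      rw [hpow, ringChar.Nat.cast_ringChar, zero_mul, Matrix.SpecialLinearGroup.transvection_coeff_zero]
    obtain ⟨j', hj'⟩ := IsPGroup.iff_orderOf.1 h2 (ψ (Matrix.SpecialLinearGroup.transvection hij c))
    rw [hj']
    rcases Nat.eq_zero_or_pos j' with rfl | hj0
    · rfl
    · refine absurd ?_ hp2
      have h3 := orderOf_dvd_of_pow_eq_one (show ψ (Matrix.SpecialLinearGroup.transvection hij c) ^ ringChar F = 1 by
        rw [← map_pow, h1, map_one])
      exact ((dvd_pow_self 2 hj0.ne').trans (dvd_of_eq hj'.symm)).trans h3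
  intro x hx
  have h1 : e ⟨x, hx⟩ ∈ ψ.ker := by rw [htop]; trivial
  rw [MonoidHom.mem_ker] at h1
  have h2' : (QuotientGroup.mk' K) ((e.symm (e ⟨x, hx⟩) : L) : H) = 1 := h1
  rw [e.symm_apply_apply] at h2'
  exact (QuotientGroup.eq_one_iff x).1 h2'

/-- The order of `SL(2,q)`. -/
theorem card_sl2_ge {F : Type} [Field F] [Fintype F] (hodd : Odd (Fintype.card F)) :
    24 ≤ Nat.card (Matrix.SpecialLinearGroup (Fin 2) F) ∧
      Nat.card (center (Matrix.SpecialLinearGroup (Fin 2) F)) = 2 := by
  classical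
  have hq : 3 ≤ Fintype.card F := by
    have := Fintype.one_lt_card (α := F)
    obtain ⟨m, hm⟩ := hodd
    omega
  have hc : Nat.card (center (Matrix.SpecialLinearGroup (Fin 2) F)) = 2 := by
    rw [CfsgLib.Classical.card_center_sl 2 (by norm_num)]
    exact Nat.gcd_eq_left (by obtain ⟨m, hm⟩ := hodd; exact ⟨m, by omega⟩)
  refine ⟨?_, hc⟩
  rw [card_eq_card_quotient_mul_card_subgroup (center _), hc]
  have h1 : 2 * Nat.card (Matrix.ProjectiveSpecialLinearGroup (Fin 2) F) = _ :=
    CfsgLib.KGroups.AbelianTwo.card_psl2_odd hodd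
  have h2 : 3 * (2 * 4) ≤ Fintype.card F * ((Fintype.card F - 1) * (Fintype.card F + 1)) :=
    Nat.mul_le_mul hq (Nat.mul_le_mul (by omega) (by omega))
  have h3 : 3 * (2 * 4) ≤ 2 * Nat.card (Matrix.ProjectiveSpecialLinearGroup (Fin 2) F) := h1 ▸ h2
  show 24 ≤ Nat.card (Matrix.ProjectiveSpecialLinearGroup (Fin 2) F) * 2
  omega

/-- The statement of S1216. -/
theorem qd_sl2 (hD : SimpleDihedral.{u}) (S : Sylow 2 H)
    (hS : Cfsg.IsQuasiDihedral (S : Subgroup H) ∨ Cfsg.IsWreathed (S : Subgroup H))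
    (hO : Cfsg.oddCore H = ⊥) (K : Subgroup H) [hKn : K.Normal] {a : ℕ} (hKi : K.index = 2 ^ a)
    (hno : ∀ M : Subgroup ↥K, M.index ≠ 2)
    (hQ0 : ∀ P : Sylow 2 ↥K, ∃ m : ℕ, 1 ≤ m ∧ Nonempty ((P : Subgroup ↥K) ≃* QuaternionGroup (2 ^ m))) :
    ∃ L₀ : Subgroup H, L₀.Normal ∧ (∃ (F : Type) (_ : Field F) (_ : Fintype F), Odd (Fintype.card F) ∧
        Nonempty (L₀ ≃* Matrix.SpecialLinearGroup (Fin 2) F)) ∧
      ∀ L₁ : Subgroup H, L₁.Normal → (∃ (F : Type) (_ : Field F) (_ : Fintype F), Odd (Fintype.card F) ∧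
        Nonempty (L₁ ≃* Matrix.SpecialLinearGroup (Fin 2) F)) → L₁ = L₀ := by
  classical
  haveI : Fact (Nat.Prime 2) := ⟨Nat.prime_two⟩
  have hQ : ∀ P : Sylow 2 ↥K, ∃ n : ℕ, Nonempty ((P : Subgroup ↥K) ≃* QuaternionGroup (2 ^ (n + 1))) :=
    fun P => by
      obtain ⟨m, hm, he⟩ := hQ0 P
      exact ⟨m - 1, by rwa [Nat.sub_add_cancel hm]⟩
  have hOK : Cfsg.oddCore ↥K = ⊥ := by
    haveI : ((Cfsg.pPrimeCore 2 ↥K).map K.subtype).Normal := inferInstance
    have h1 : (Cfsg.pPrimeCore 2 ↥K).map K.subtype ≤ Cfsg.oddCore H := CfsgLib.Solvable.Cores.le_pPrimeCore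
      (by rw [card_map_of_injective K.subtype_injective]; exact CfsgLib.Solvable.Cores.coprime_card_pPrimeCore 2)
    rw [hO, le_bot_iff, map_eq_bot_iff_of_injective _ K.subtype_injective] at h1
    exact h1
  obtain ⟨P0⟩ : Nonempty (Sylow 2 ↥K) := inferInstance
  obtain ⟨n, ⟨e⟩⟩ := hQ P0
  obtain ⟨hZ, ⟨eD⟩⟩ := CfsgLib.GWKlein.Consumers.central_quotient P0 n e hOK
  have hinv := fun (x y : ↥K) (hx : orderOf x = 2) (hy : orderOf y = 2) (hc : Commute x y) =>
    invol_eq_of_quaternion hQ hx hy hc
  set π := QuotientGroup.mk' (center ↥K) with hπ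
  have hπs : Function.Surjective π := QuotientGroup.mk'_surjective _
  set PX := P0.mapSurjective hπs
  have hOX : Cfsg.oddCore (↥K ⧸ center ↥K) = ⊥ := core_quotient_center hOK hZ
  have hnoX : ∀ M : Subgroup (↥K ⧸ center ↥K), M.index ≠ 2 := fun M hM =>
    hno (M.comap π) (by rw [index_comap_of_surjective _ hπs, hM])
  have hm2 : 2 ≤ 2 ^ (n + 1) := Nat.le_self_pow (by omega) 2
  by_cases hsol : Group.IsSolvable (↥K ⧸ center ↥K)
  · haveI := hsol
    obtain ⟨F, hFn, hF4, hCF, hidx, -⟩ : ∃ F : Subgroup (↥K ⧸ center ↥K), F.Normal ∧ Nat.card F = 4 ∧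
        centralizer (F : Set (↥K ⧸ center ↥K)) = F ∧ (F.index = 3 ∨ F.index = 6) ∧ _ := by
      rcases solvable_shape PX hm2 eD hOX with h | h
      · exfalso
        obtain ⟨j, hj⟩ := h.exists_card_eq
        have hpos : 1 ≤ j := by
          by_contra hlt
          obtain rfl : j = 0 := by omega
          have h1 : Nat.card PX = 2 * 2 ^ (n + 1) := by
            rw [← DihedralGroup.nat_card, Nat.card_congr eD.toEquiv]
          have h2 := card_subgroup_dvd_card (PX : Subgroup (↥K ⧸ center ↥K))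
          rw [hj, pow_zero] at h2
          have := Nat.le_of_dvd one_pos h2
          omega
        obtain ⟨M, hM⟩ := Sylow.exists_subgroup_card_pow_prime 2 (n := j - 1)
          (by rw [hj]; exact pow_dvd_pow 2 (by omega))
        refine hnoX M ?_
        have h1 := card_mul_index M
        rw [hM, hj, ← Nat.sub_add_cancel hpos, pow_succ, Nat.add_sub_cancel] at h1
        exact Nat.eq_of_mul_eq_mul_left (pow_pos two_pos _) h1
      · exact h
    haveI := hFn
    have h3 : F.index = 3 := hidx.resolve_right fun h6 => by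
      haveI : Fact (Nat.Prime 3) := ⟨Nat.prime_three⟩
      obtain ⟨M, hM⟩ := Sylow.exists_subgroup_card_pow_prime (G := (↥K ⧸ center ↥K) ⧸ F) 3 (n := 1)
        (by rw [← index_eq_card, h6]; norm_num)
      refine hnoX (M.comap (QuotientGroup.mk' F)) ?_
      rw [index_comap_of_surjective _ (QuotientGroup.mk'_surjective F)]
      have h1 := card_mul_index M
      rw [hM, ← index_eq_card, h6] at h1
      omega
    have hK24 : Nat.card ↥K = 24 := by
      rw [card_eq_card_quotient_mul_card_subgroup (center ↥K), hZ, ← card_mul_index F, hF4, h3]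
    set Q := F.comap π with hQdef
    have hQc : Nat.card Q = 8 := by
      rw [hQdef, hπ, CfsgLib.Solvable.Basic.card_comap_mk, hZ, hF4]
    have hQp : IsPGroup 2 Q := IsPGroup.of_card (n := 3) (by rw [hQc]; norm_num)
    have hP8 : Nat.card P0 = 8 := by
      haveI : NeZero (2 ^ (n + 1)) := ⟨by positivity⟩
      have h1 : Nat.card P0 = 4 * 2 ^ (n + 1) := by
        rw [Nat.card_congr e.toEquiv, Nat.card_eq_fintype_card, QuaternionGroup.card]
      have h2 : Nat.card P0 ∣ 24 := hK24 ▸ card_subgroup_dvd_card _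
      rw [h1] at h2 ⊢
      rcases n with _ | n
      · rfl
      · exfalso
        have : 16 ∣ 24 := dvd_trans ⟨2 ^ n, by ring⟩ h2
        norm_num at this
    have hQP : Q = (P0 : Subgroup ↥K) := Subgroup.eq_of_le_of_card_ge
      ((CfsgLib.Solvable.Cores.le_pCore hQp).trans (CfsgLib.Solvable.Cores.pCore_le_sylow P0)) (by rw [hQc, hP8])
    have hn0 : n = 0 := by
      haveI : NeZero (2 ^ (n + 1)) := ⟨by positivity⟩
      rw [Nat.card_congr e.toEquiv, Nat.card_eq_fintype_card, QuaternionGroup.card] at hP8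
      rcases n with _ | n
      · rfl
      · have : 4 * (2 ^ (n + 1 + 1)) = 16 * 2 ^ n := by ring
        have := Nat.one_le_two_pow (n := n)
        omega
    subst hn0
    obtain ⟨eK⟩ := CfsgLib.Recognition.NearField.SL23.mulEquiv_sl (S := ↥K) Q
      ⟨(MulEquiv.subgroupCongr hQP).trans e⟩ hK24 (fun x hx => by
        rw [hQdef, mem_comap]
        refine hCF.le (mem_centralizer_iff.2 fun y hy => ?_)
        obtain ⟨y', rfl⟩ := hπs y
        rw [← map_mul, ← map_mul]
        exact congrArg π (mem_centralizer_iff.1 hx y' hy))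
    haveI : Fact (Nat.Prime 3) := ⟨Nat.prime_three⟩
    refine ⟨K, hKn, ⟨ZMod 3, inferInstance, inferInstance, by rw [ZMod.card]; exact ⟨1, rfl⟩, ⟨eK⟩⟩, ?_⟩
    rintro L₁ - ⟨F', i1, i2, hodd, ⟨e1⟩⟩
    refine Subgroup.eq_of_le_of_card_ge (sl2_le hKi hodd e1) ?_
    rw [hK24, Nat.card_congr e1.toEquiv]
    exact (card_sl2_ge hodd).1
  obtain ⟨L, hL, hLs, hiso, hCL, h4⟩ := exists_normal hD PX hm2 eD hOX hsol
  haveI := hL
  haveI := hLs
  have hLna : ¬ IsMulCommutative ↥L := by
    intro hc
    have h1 : ¬ Group.IsSolvable L := fun hs => hsol (CfsgLib.Sectional.OddCoreA8.isSolvable_of_ker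
      (QuotientGroup.mk' L) (by rw [QuotientGroup.ker_mk']; exact hs)
      (CfsgLib.GWKlein.Consumers.isSolvable_of_not_four (by rwa [← index_eq_card])))
    exact h1 (Group.isSolvable_of_comm fun x y => hc.is_comm.comm x y)
  have hLev : 2 ∣ Nat.card ↥L := CfsgLib.Involution.SelfCentNoncyclic.two_dvd_card hLna
  have hodd : Odd L.index := by
    by_contra he
    rw [Nat.not_odd_iff_even] at he
    obtain ⟨M, hM⟩ := CfsgLib.Involution.BrauerFowler.exists_index_two_of_two_odd
      (G := (↥K ⧸ center ↥K) ⧸ L) (by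
        rw [← index_eq_card]
        obtain ⟨c, hc⟩ := he
        have : ¬ 4 ∣ L.index := h4
        omega)
    exact hnoX (M.comap (QuotientGroup.mk' L)) (by rw [index_comap_of_surjective _ (QuotientGroup.mk'_surjective L), hM])
  rcases hiso with ⟨F, i1, i2, hFodd, h3, ⟨eL⟩⟩ | ⟨⟨eL⟩⟩
  swap
  · exfalso
    obtain ⟨eX⟩ := eq_seven PX hm2 eD L eL hCL
    haveI : IsSimpleGroup ↥(alternatingGroup (Fin 7)) := alternatingGroup.isSimpleGroup (by rw [Nat.card_fin]; norm_num)
    haveI : IsSimpleGroup (↥K ⧸ center ↥K) := eX.isSimpleGroup_congr.2 inferInstance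
    have hXna : ¬ IsMulCommutative (↥K ⧸ center ↥K) := fun hc =>
      hsol (Group.isSolvable_of_comm fun x y => hc.is_comm.comm x y)
    refine not_seven S hS K (perfect_of_cover hXna (CfsgLib.Involution.SelfCentNoncyclic.two_dvd_card hXna) hinv π hπs
      (by rw [hπ, QuotientGroup.ker_mk']) (by rw [hπ, QuotientGroup.ker_mk', hZ])) hZ hQ eX
  haveI : IsSimpleGroup (Matrix.ProjectiveSpecialLinearGroup (Fin 2) F) :=
    CfsgLib.Classical.psl_fin_isSimpleGroup le_rfl fun _ => h3
  set M := L.comap π with hMdef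
  let g : M →* ↥L := π.subgroupComap L
  have hgs : Function.Surjective g := MonoidHom.subgroupComap_surjective_of_surjective _ _ hπs
  have hgk : g.ker = (center ↥K).subgroupOf M := by
    ext x
    rw [MonoidHom.mem_ker, mem_subgroupOf, Subtype.ext_iff]
    exact QuotientGroup.eq_one_iff (x : ↥K)
  have hZM : center ↥K ≤ M := fun x hx => by
    rw [hMdef, mem_comap, hπ, QuotientGroup.mk'_apply, (QuotientGroup.eq_one_iff x).2 hx]; exact one_mem _
  have hg2 : Nat.card g.ker = 2 := by rw [hgk, Nat.card_congr (subgroupOfEquivOfLe hZM).toEquiv, hZ]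
  have hgc : g.ker ≤ center ↥M := hgk ▸ fun x hx => mem_center_iff.2 fun y =>
    Subtype.ext (mem_center_iff.1 (mem_subgroupOf.1 hx) y)
  have hperf : commutator ↥M = ⊤ := perfect_of_cover hLna hLev (fun x y hx hy hc => Subtype.ext (hinv x y
    (by rw [Subgroup.orderOf_coe, hx]) (by rw [Subgroup.orderOf_coe, hy]) (congrArg Subtype.val hc.eq))) g hgs hgc hg2
  obtain ⟨eM⟩ := CfsgLib.GWKlein.Consumers.sl2_equiv_of_cover (by obtain ⟨j, hj⟩ := hFodd; omega) hFodd hperf
    (eL.toMonoidHom.comp g) (eL.surjective.comp hgs)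
    (fun x hx => hgc (by
      rw [MonoidHom.mem_ker] at hx ⊢
      exact eL.injective (hx.trans (map_one eL).symm)))
    (by
      rw [show (eL.toMonoidHom.comp g).ker = g.ker from by
        ext x; rw [MonoidHom.mem_ker, MonoidHom.mem_ker]; exact eL.map_eq_one_iff, hg2])
  set L₀ := M.map K.subtype with hL₀
  let e0 : ↥L₀ ≃* Matrix.SpecialLinearGroup (Fin 2) F :=
    (M.equivMapOfInjective _ K.subtype_injective).symm.trans eM.symm
  haveI hQsol : Group.IsSolvable ((↥K ⧸ center ↥K) ⧸ L) := Cfsg.Agent.S0205.result (by rwa [← index_eq_card])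
  let τ : ↥K →* (↥K ⧸ center ↥K) ⧸ L := (QuotientGroup.mk' L).comp π
  have hτk : ∀ x : ↥K, τ x = 1 → x ∈ M := fun x hx => (QuotientGroup.eq_one_iff (π x)).1 hx
  refine ⟨L₀, ⟨fun x hx c => ?_⟩, ⟨F, i1, i2, hFodd, ⟨e0⟩⟩, ?_⟩
  · -- a conjugate is perfect, so it maps to one in the solvable quotient
    have hxK : x ∈ K := map_subtype_le M hx
    let σ : M →* (↥K ⧸ center ↥K) ⧸ L := τ.comp
      { toFun := fun m => ⟨c * ((m : ↥K) : H) * c⁻¹, hKn.conj_mem _ (m : ↥K).2 c⟩
        map_one' := Subtype.ext (by simp)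
        map_mul' := fun p q => Subtype.ext (by simp [mul_assoc]) }
    haveI : Group.IsPerfect ↥M := ⟨hperf⟩
    haveI : Group.IsPerfect ↥σ.range := ⟨by
      rw [_root_.commutator_def]
      apply Subgroup.map_injective (f := σ.range.subtype) σ.range.subtype_injective
      rw [map_commutator, ← MonoidHom.range_eq_map, range_subtype]
      conv_rhs => rw [MonoidHom.range_eq_map, ← hperf, _root_.commutator_def, map_commutator, ← MonoidHom.range_eq_map]⟩
    haveI : Group.IsSolvable ↥σ.range := inferInstance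
    haveI := subsingleton_of_perfect_solvable (G := ↥σ.range)
    obtain ⟨m, hm, rfl⟩ := hx
    refine ⟨⟨c * (m : H) * c⁻¹, hKn.conj_mem _ m.2 c⟩, hτk _ ?_, rfl⟩
    exact congrArg Subtype.val (Subsingleton.elim (⟨σ ⟨m, hm⟩, ⟨m, hm⟩, rfl⟩ : σ.range) 1)
  · rintro L₁ hL1 ⟨F', j1, j2, hodd', ⟨e1⟩⟩
    haveI := hL1
    have hle := sl2_le hKi hodd' e1
    set M₁ := L₁.subgroupOf K with hM₁
    haveI : M₁.Normal := inferInstance
    let eM1 : ↥M₁ ≃* Matrix.SpecialLinearGroup (Fin 2) F' := (subgroupOfEquivOfLe hle).trans e1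
    obtain ⟨hcard1, hc1⟩ := card_sl2_ge hodd'
    have hZ1 : center ↥K ≤ M₁ := by
      obtain ⟨v, hv⟩ := exists_prime_orderOf_dvd_card' (G := center (Matrix.SpecialLinearGroup (Fin 2) F')) 2 (by rw [hc1])
      obtain ⟨z, hz⟩ := exists_prime_orderOf_dvd_card' (G := center ↥K) 2 (by rw [hZ])
      intro x hx
      have hvz : ((eM1.symm v : ↥M₁) : ↥K) = z := hinv _ _
        (by rw [Subgroup.orderOf_coe, MulEquiv.orderOf_eq, Subgroup.orderOf_coe, hv])
        (by rw [Subgroup.orderOf_coe, hz]) (mem_center_iff.1 z.2 _)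
      haveI : Fact (Nat.card (center ↥K)).Prime := ⟨by rw [hZ]; exact Nat.prime_two⟩
      obtain ⟨i, hi⟩ := mem_zpowers_of_prime_card (g := z) (g' := ⟨x, hx⟩) rfl
        (fun h => by rw [h, orderOf_one] at hz; omega)
      rw [← show ((z : ↥K)) ^ i = x from congrArg Subtype.val hi, ← hvz]
      exact M₁.zpow_mem (eM1.symm v).2 i
    haveI hM1n : (M₁.map π).Normal := (inferInstance : M₁.Normal).map π hπs
    set I := M₁.map π
    haveI : (L.subgroupOf I).Normal := inferInstance
    have hLI : L ≤ I := by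
      rcases (inferInstance : ((L ⊓ I).subgroupOf L).Normal).eq_bot_or_eq_top with h | h
      · exfalso
        rw [subgroupOf_eq_bot, disjoint_iff, inf_comm, ← inf_assoc, inf_idem] at h
        have hI : I ≤ centralizer (L : Set (↥K ⧸ center ↥K)) := fun x hx => mem_centralizer_iff.2 fun y hy =>
          (commute_of_normal_of_disjoint L I hL hM1n (disjoint_iff.2 h) y x hy hx).eq
        rw [hCL, le_bot_iff, Subgroup.map_eq_bot_iff, hπ, QuotientGroup.ker_mk'] at hI
        have h5 := Subgroup.card_le_of_le hI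
        rw [hZ, Nat.card_congr eM1.toEquiv] at h5
        omega
      · exact fun x hx => (subgroupOf_eq_top.1 h hx).2
    have hIc : I ≤ L := by
      let ζ : Matrix.SpecialLinearGroup (Fin 2) F' →* ↥I :=
        ((π.subgroupMap M₁)).comp eM1.symm.toMonoidHom
      have hζ : Function.Surjective ζ := (π.subgroupMap_surjective M₁).comp eM1.symm.surjective
      rcases (show 4 ≤ Fintype.card F' ∨ Fintype.card F' < 4 from le_or_gt 4 _) with hq | hq
      · let σ : Matrix.SpecialLinearGroup (Fin 2) F' →* (↥K ⧸ center ↥K) ⧸ L :=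
          (QuotientGroup.mk' L).comp (I.subtype.comp ζ)
        haveI : Group.IsPerfect ↥σ.range := ⟨by
          rw [_root_.commutator_def]
          apply Subgroup.map_injective (f := σ.range.subtype) σ.range.subtype_injective
          rw [map_commutator, ← MonoidHom.range_eq_map, range_subtype]
          conv_rhs => rw [MonoidHom.range_eq_map, ← CfsgLib.KnownA.PSLMultiplier.sl_two_perfect hq,
            _root_.commutator_def, map_commutator, ← MonoidHom.range_eq_map]⟩
        haveI := subsingleton_of_perfect_solvable (G := ↥σ.range)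
        intro x hx
        obtain ⟨v, hv⟩ := hζ ⟨x, hx⟩
        have h5 : σ v = 1 := congrArg Subtype.val (Subsingleton.elim (⟨σ v, v, rfl⟩ : σ.range) 1)
        have h6 : ((ζ v : ↥I) : ↥K ⧸ center ↥K) ∈ L := (QuotientGroup.eq_one_iff _).1 h5
        rwa [hv] at h6
      · exfalso
        have hq3 : Fintype.card F' = 3 := by
          have := Fintype.one_lt_card (α := F')
          obtain ⟨j, hj⟩ := hodd'
          omega
        have h12 : Nat.card ↥L ≤ 12 := by
          have hz : center (Matrix.SpecialLinearGroup (Fin 2) F') ≤ ζ.ker := fun v hv => by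
            rw [MonoidHom.mem_ker]
            refine Subtype.ext ((QuotientGroup.eq_one_iff _).2 (mem_center_iff.2 fun y => ?_))
            by_cases hv1 : v = 1
            · subst hv1; simp
            obtain ⟨z, hz⟩ := exists_prime_orderOf_dvd_card' (G := center ↥K) 2 (by rw [hZ])
            have hvo : orderOf v = 2 := by
              refine orderOf_eq_prime ?_ hv1
              have h7 := congrArg Subtype.val (pow_card_eq_one' (x := (⟨v, hv⟩ : center (Matrix.SpecialLinearGroup (Fin 2) F'))))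
              rwa [hc1] at h7
            have e9 := hinv ((eM1.symm v : ↥M₁) : ↥K) z (by rw [Subgroup.orderOf_coe, MulEquiv.orderOf_eq, hvo])
              (by rw [Subgroup.orderOf_coe, hz]) (mem_center_iff.1 z.2 _)
            exact (mem_center_iff.1 (e9 ▸ z.2 : ((eM1.symm v : ↥M₁) : ↥K) ∈ center ↥K) y)
          have h8 : 2 ≤ Nat.card ζ.ker := (le_of_eq hc1.symm).trans (Subgroup.card_le_of_le hz)
          have h9 := Subgroup.card_eq_card_quotient_mul_card_subgroup ζ.ker
          rw [Nat.card_congr (QuotientGroup.quotientKerEquivOfSurjective ζ hζ).toEquiv] at h9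
          have h10 : Nat.card (Matrix.SpecialLinearGroup (Fin 2) F') = 24 := by
            rw [card_eq_card_quotient_mul_card_subgroup (center _), hc1]
            have h1 : 2 * Nat.card (Matrix.ProjectiveSpecialLinearGroup (Fin 2) F') = _ :=
              CfsgLib.KGroups.AbelianTwo.card_psl2_odd hodd'
            rw [hq3] at h1
            norm_num at h1
            show Nat.card (Matrix.ProjectiveSpecialLinearGroup (Fin 2) F') * 2 = 24
            rw [Nat.card_eq_fintype_card]; omega
          rw [h10] at h9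
          have h11 : Nat.card ↥I ≤ 12 := by nlinarith
          exact (Subgroup.card_le_of_le hLI).trans h11
        have h60 := CfsgLib.Involution.SelfCentNoncyclic.two_dvd_card hLna
        rw [Nat.card_congr eL.toEquiv] at h12
        have h1 : 2 * Nat.card (Matrix.ProjectiveSpecialLinearGroup (Fin 2) F) = _ :=
          CfsgLib.KGroups.AbelianTwo.card_psl2_odd hFodd
        have h2 : 5 * (4 * 6) ≤ Fintype.card F * ((Fintype.card F - 1) * (Fintype.card F + 1)) := by
          obtain ⟨j, hj⟩ := hFodd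
          exact Nat.mul_le_mul (by omega) (Nat.mul_le_mul (by omega) (by omega))
        omega
    have hM1 : M₁ = M := by
      rw [hMdef, ← le_antisymm hIc hLI, comap_map_eq, hπ, QuotientGroup.ker_mk', sup_eq_left.2 hZ1]
    rw [hL₀, ← hM1, hM₁, map_subgroupOf_eq_of_le hle]

end CfsgLib.GWDihedral.Consumers
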