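import Cfsg.Agent.Lib.GWDihedral.Consumers.Perfect
import Cfsg.Agent.Lib.GWDihedral.Consumers.Quaternion
import Cfsg.Agent.Lib.GWKlein.Consumers.DoubleCover
import Cfsg.Agent.Lib.LocalEven.RankOneGen.Cyclic
import Cfsg.Prelude.Def_SporadicB

/-!
# Perfect groups of 2-rank one

Modulo the odd core they are `SL(2,q)` or the double cover of `A₇`.
-/

set_option autoImplicit false
set_option linter.style.haveILetI false
set_option linter.unusedSectionVars false

namespace CfsgLib.GWDihedral.Consumers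

open Subgroup
open scoped commutatorElement

universe u

variable {X : Type u} [Group X] [Finite X]

theorem isPerfect_quotient [Group.IsPerfect X] (N : Subgroup X) [N.Normal] : Group.IsPerfect (X ⧸ N) :=
  ⟨by rw [_root_.commutator_def, ← MonoidHom.range_eq_top.2 (QuotientGroup.mk'_surjective N),
    MonoidHom.range_eq_map, ← Subgroup.map_commutator, ← _root_.commutator_def,
    Group.IsPerfect.commutator_eq_top]⟩

/-- A quotient by an odd core equal to one. -/
theorem lTwo_of_core_bot {Y : Type u} [Group Y] (hO : Cfsg.oddCore Y = ⊥)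
    (h : IsLTwoOrSeven (Y ⧸ Cfsg.oddCore Y)) : IsLTwoOrSeven Y := by
  have e : Y ≃* Y ⧸ Cfsg.oddCore Y :=
    ((QuotientGroup.quotientMulEquivOfEq hO).trans QuotientGroup.quotientBot).symm
  rcases h with ⟨F, i1, i2, h1, h2, ⟨f⟩⟩ | ⟨⟨f⟩⟩
  · exact Or.inl ⟨F, i1, i2, h1, h2, ⟨e.trans f⟩⟩
  · exact Or.inr ⟨e.trans f⟩

/-- The statement of S3099. -/
theorem rank_one_perfect (hD : SimpleDihedral.{u}) (hP : Group.IsPerfect X) (h1 : Cfsg.PRankLE 2 1 X)
    (h2 : Even (Nat.card X)) :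
    (∃ (F : Type) (_ : Field F) (_ : Fintype F), Odd (Fintype.card F) ∧ 3 < Fintype.card F ∧
        Nonempty (X ⧸ Cfsg.oddCore X ≃* Matrix.SpecialLinearGroup (Fin 2) F)) ∨
      Cfsg.IsNonsplitDoubleCover (X ⧸ Cfsg.oddCore X) ↥(alternatingGroup (Fin 7)) := by
  classical
  haveI := hP
  haveI : Fact (Nat.Prime 2) := ⟨Nat.prime_two⟩
  obtain ⟨S⟩ : Nonempty (Sylow 2 X) := inferInstance
  have hr : Cfsg.PRankLE 2 1 ↥(S : Subgroup X) := fun A hA hA2 => by
    have h := h1 (A.map (S : Subgroup X).subtype) ⟨⟨fun a b => by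
      obtain ⟨a', ha', ea⟩ := a.2
      obtain ⟨b', hb', eb⟩ := b.2
      refine Subtype.ext ?_
      show (a : X) * b = b * a
      rw [← ea, ← eb, ← map_mul, ← map_mul]
      exact congrArg _ (congrArg Subtype.val (hA.is_comm.comm ⟨a', ha'⟩ ⟨b', hb'⟩))⟩⟩ (by
      rintro _ ⟨a, ha, rfl⟩
      rw [← map_pow, hA2 a ha, map_one])
    rwa [card_map_of_injective (S : Subgroup X).subtype_injective] at h
  have hX : ¬ Group.IsSolvable X := fun h => by
    haveI := h
    haveI := subsingleton_of_perfect_solvable (G := X)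
    rw [Nat.card_unique] at h2
    exact Nat.not_even_one h2
  have hncyc : ¬ IsCyclic ↥(S : Subgroup X) := fun h => hX
    (CfsgLib.LocalEvenB.CyclicInter.isSolvable_of_cyclic_sylow (fun Y _ _ hY => Cfsg.Agent.S0205.result hY) S h)
  obtain ⟨n, ⟨e⟩⟩ := ((CfsgLib.LocalEven.RankOneGen.cyclic_or_quaternion S.2 hr).resolve_left hncyc).2
  obtain ⟨n, rfl⟩ : ∃ j, n = j + 1 := by
    refine Nat.exists_eq_add_one.2 (Nat.pos_of_ne_zero fun h0 => hncyc ?_)
    subst h0
    haveI : IsCyclic (QuaternionGroup (2 ^ 0)) := by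
      rw [pow_zero]
      exact isCyclic_of_orderOf_eq_card (QuaternionGroup.xa 0)
        (by rw [QuaternionGroup.orderOf_xa, Nat.card_eq_fintype_card, QuaternionGroup.card, mul_one])
    exact e.symm.isCyclic.1 inferInstance
  obtain ⟨eQ⟩ := sylow_quotient_core S
  set G := X ⧸ Cfsg.oddCore X
  have hO : Cfsg.oddCore G = ⊥ := CfsgLib.Coprime.OneClassInvolutions.pPrimeCore_quotient_self
  set SG := S.mapSurjective (QuotientGroup.mk'_surjective (Cfsg.oddCore X))
  obtain ⟨hZ, ⟨eD⟩⟩ := CfsgLib.GWKlein.Consumers.central_quotient SG n (eQ.symm.trans e) hO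
  haveI hGp : Group.IsPerfect G := isPerfect_quotient _
  haveI : Group.IsPerfect (G ⧸ center G) := isPerfect_quotient _
  have hq := lTwo_of_core_bot (core_quotient_center hO hZ)
    (perfect_dihedral hD (SG.mapSurjective (QuotientGroup.mk'_surjective (center G)))
      (n := 2 ^ (n + 1)) (Nat.le_self_pow (by omega) 2) ⟨eD⟩)
  rcases hq with ⟨F, i1, i2, hodd, h3, ⟨f⟩⟩ | ⟨⟨f⟩⟩
  · refine Or.inl ⟨F, i1, i2, hodd, h3, ?_⟩
    let g : G →* Matrix.ProjectiveSpecialLinearGroup (Fin 2) F := f.toMonoidHom.comp (QuotientGroup.mk' (center G))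
    have hk : g.ker = center G := by
      ext x
      rw [MonoidHom.mem_ker]
      show f (QuotientGroup.mk' (center G) x) = 1 ↔ _
      rw [EmbeddingLike.map_eq_one_iff]
      exact QuotientGroup.eq_one_iff x
    obtain ⟨eS⟩ := CfsgLib.GWKlein.Consumers.sl2_equiv_of_cover (by obtain ⟨j, hj⟩ := hodd; omega) hodd
      (Group.IsPerfect.commutator_eq_top (G := G)) g (f.surjective.comp (QuotientGroup.mk'_surjective _)) hk.le
      (hk ▸ hZ)
    exact ⟨eS.symm⟩
  · refine Or.inr ⟨hZ, ⟨f⟩, fun L hL => ?_⟩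
    have hdec : ∀ x : G, ∃ l ∈ L, ∃ z ∈ center G, x = z * l := fun x => by
      obtain ⟨⟨z, l⟩, hzl⟩ := hL.2 x
      exact ⟨l, l.2, z, z.2, hzl.symm⟩
    have htop : L = ⊤ := by
      rw [eq_top_iff, ← Group.IsPerfect.commutator_eq_top (G := G), _root_.commutator_def, commutator_le]
      intro x _ y _
      obtain ⟨l, hl, z, hz, rfl⟩ := hdec x
      obtain ⟨l', hl', w, hw, rfl⟩ := hdec y
      have c : ∀ v ∈ center G, ∀ g : G, v * g = g * v := fun v hv g => (mem_center_iff.1 hv g).symm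
      have : ⁅z * l, w * l'⁆ = ⁅l, l'⁆ := by
        rw [commutatorElement_def, commutatorElement_def, _root_.mul_inv_rev, _root_.mul_inv_rev]
        calc z * l * (w * l') * (l⁻¹ * z⁻¹) * (l'⁻¹ * w⁻¹)
            = z * l * (w * l') * (z⁻¹ * l⁻¹) * (w⁻¹ * l'⁻¹) := by
              rw [c _ (inv_mem hz) l⁻¹, c _ (inv_mem hw) l'⁻¹]
          _ = z * (l * w) * l' * z⁻¹ * l⁻¹ * w⁻¹ * l'⁻¹ := by group
          _ = z * w * l * (z⁻¹ * l') * l⁻¹ * w⁻¹ * l'⁻¹ := by rw [← c w hw l, c _ (inv_mem hz) l']; group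
          _ = z * (w * (l * z⁻¹)) * l' * l⁻¹ * w⁻¹ * l'⁻¹ := by group
          _ = (z * w) * z⁻¹ * l * l' * (l⁻¹ * w⁻¹) * l'⁻¹ := by rw [← c _ (inv_mem hz) l]; group
          _ = (w * (z * z⁻¹)) * l * l' * (w⁻¹ * l⁻¹) * l'⁻¹ := by rw [c z hz w, c _ (inv_mem hw) l⁻¹]; group
          _ = w * (l * l' * w⁻¹) * l⁻¹ * l'⁻¹ := by group
          _ = l * l' * l⁻¹ * l'⁻¹ := by rw [← c _ (inv_mem hw) (l * l')]; group
      rw [this, commutatorElement_def]
      exact mul_mem (mul_mem (mul_mem hl hl') (inv_mem hl)) (inv_mem hl')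
    have hb := hL.disjoint
    rw [htop, disjoint_top] at hb
    rw [hb, card_bot] at hZ
    omega

end CfsgLib.GWDihedral.Consumers
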