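import Cfsg.Agent.Lib.GWDihedral.Consumers.OuterTorus
import Cfsg.Agent.Lib.GWDihedral.ModelSeven
import Cfsg.Agent.Lib.Characterizations.DGroup.TwoClassBasic
import Cfsg.Agent.S2119

/-!
# Two involutions with cyclic Sylow centralisers on a simple group with dihedral Sylow 2-subgroups

`commute_of_cyclic_centralizers`: commuting involutions `a`, `b` normalise the simple `L`, their
centralisers in `L` have cyclic Sylow 2-subgroups; if `L` is not generated by `a`, `b` and the two
centralisers then `a * b` centralises `L`.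
-/

set_option autoImplicit false
set_option linter.unusedSectionVars false
set_option linter.style.haveILetI false

universe u

namespace CfsgLib.GWDihedral.TwoInvolutions

open Matrix CfsgLib.KnownC.AutPSL CfsgLib.Classical.Dickson
open scoped MatrixGroups

/-- `α` fixes two distinct commuting involutions. -/
def FixesFour {K : Type*} [Group K] (α : MulAut K) : Prop :=
  ∃ v w : K, orderOf v = 2 ∧ orderOf w = 2 ∧ v ≠ w ∧ Commute v w ∧ α v = v ∧ α w = w

theorem fixesFour_congr {K L : Type*} [Group K] [Group L] (e : K ≃* L) {α : MulAut K}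
    (h : FixesFour ((e.symm.trans α).trans e)) : FixesFour α := by
  obtain ⟨v, w, hv, hw, hne, hc, hfv, hfw⟩ := h
  refine ⟨e.symm v, e.symm w, (MulEquiv.orderOf_eq e.symm v).trans hv,
    (MulEquiv.orderOf_eq e.symm w).trans hw, fun h => hne (e.symm.injective h), hc.map e.symm, ?_, ?_⟩
  · exact e.injective (by simpa using hfv)
  · exact e.injective (by simpa using hfw)

section Linear

variable {F : Type} [Field F] [Fintype F]

/-- An element of order at most 2 of `PSL(2,q)` commutes with a four-group. -/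
theorem exists_four (hodd : Odd (Fintype.card F)) (h3 : 3 < Fintype.card F)
    {x : ProjectiveSpecialLinearGroup (Fin 2) F} (hx : x * x = 1) :
    FixesFour (MulAut.conj x) := by
  classical
  obtain ⟨t, ht, htx⟩ : ∃ t : ProjectiveSpecialLinearGroup (Fin 2) F,
      orderOf t = 2 ∧ (x = 1 ∨ x = t) := by
    by_cases hx1 : x = 1
    · obtain ⟨p, hpc⟩ := CharP.exists F
      obtain ⟨f, hp', -⟩ := FiniteField.card F p
      haveI : Fact p.Prime := ⟨hp'⟩
      haveI : Fact (Nat.Prime 2) := ⟨Nat.prime_two⟩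
      set ι := ProjectiveSpecialLinearGroup.toPGL (n := Fin 2) (R := F)
      have h2 : 2 ∣ Nat.card (sln F) := by
        have h := card_sln (F := F)
        rw [show dd F = 2 by rcases dd_cases (F := F) with e | e <;> rw [Nat.odd_iff] at hodd <;> omega] at h
        obtain ⟨m, hm⟩ := hodd
        rw [hm] at h
        obtain ⟨c, hc⟩ : 2 ∣ m * (m + 1) := (Nat.even_mul_succ_self m).two_dvd
        refine ⟨(2 * m + 1) * (2 * c), Nat.eq_of_mul_eq_mul_left two_pos ?_⟩
        rw [show 2 * m + 1 - 1 = 2 * m by omega] at h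
        rw [h, ← hc]
        ring
      obtain ⟨⟨g, hg⟩, hg2⟩ := exists_prime_orderOf_dvd_card' 2 h2
      obtain ⟨s, hs⟩ := hg
      refine ⟨(s : ProjectiveSpecialLinearGroup (Fin 2) F), ?_, Or.inl hx1⟩
      rw [← orderOf_injective ι ProjectiveSpecialLinearGroup.toPGL_injective, toPGL_mk']
      rw [← Subgroup.orderOf_coe] at hg2
      exact (congrArg orderOf hs).trans hg2
    · exact ⟨x, orderOf_eq_prime (by rw [pow_two]; exact hx) hx1, Or.inr rfl⟩
  obtain ⟨A, hA⟩ := exists_torus (MulEquiv.refl _) hodd h3 ht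
  obtain ⟨g, hgC, hgA⟩ : ∃ g ∈ Subgroup.centralizer ({t} : Set (ProjectiveSpecialLinearGroup (Fin 2) F)),
      g ∉ A := by
    by_contra hno
    push Not at hno
    have h := Subgroup.card_le_of_le hno
    rw [hA.card_centralizer] at h
    have := Nat.card_pos (α := A)
    omega
  have hc : Commute g t := Subgroup.mem_centralizer_singleton_iff.1 hgC
  have hg1 : g ≠ 1 := fun e => hgA (e ▸ one_mem A)
  refine ⟨t, g, ht, orderOf_eq_prime (by rw [pow_two]; exact (hA.outside g hgC hgA).1) hg1,
    fun e => hgA (e ▸ hA.mem), hc.symm, ?_, ?_⟩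
  · rcases htx with e | e <;> subst e <;> simp
  · rcases htx with e | e <;> subst e
    · simp
    · rw [MulAut.conj_apply, ← hc.eq, mul_inv_cancel_right]

/-- An involutory automorphism fixing no four-group is diagonal and outer. -/
theorem exists_outer [DecidableEq F] (hodd : Odd (Fintype.card F)) (h3 : 3 < Fintype.card F)
    {α : MulAut (ProjectiveSpecialLinearGroup (Fin 2) F)} (hα : α * α = 1) (hno : ¬ FixesFour α) :
    ∃ A : GL (Fin 2) F, α = semiAut A (RingEquiv.refl F) ∧
      OuterTorus.Outer (ProjGenLinGroup.mk A) := by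
  obtain ⟨A, σ, rfl⟩ := exists_semiAut α
  obtain rfl : σ = RingEquiv.refl F := by
    by_contra hσ
    exact hno (field_case hodd hσ hα)
  refine ⟨A, rfl, ?_⟩
  have hu2 : ProjGenLinGroup.mk A * ProjGenLinGroup.mk A = 1 := by
    rw [← map_mul, ← map_one ProjGenLinGroup.mk]
    exact semiAut_eq_mk (by rw [← refl_mul, hα, semiAut_one])
  have hmem : ProjGenLinGroup.mk A ∉ sln F := by
    rintro ⟨s, hs⟩
    have e : ProjectiveSpecialLinearGroup.toPGL
        (s : ProjectiveSpecialLinearGroup (Fin 2) F) = ProjGenLinGroup.mk A := by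
      rw [toPGL_mk']; exact hs
    refine hno ?_
    have hx : (s : ProjectiveSpecialLinearGroup (Fin 2) F) * s = 1 := by
      apply ProjectiveSpecialLinearGroup.toPGL_injective
      rw [map_mul, e, hu2, map_one]
    convert exists_four hodd h3 hx using 1
    refine MulEquiv.ext fun y => ProjectiveSpecialLinearGroup.toPGL_injective ?_
    rw [MulAut.conj_apply, map_mul, map_mul, map_inv, e, toPGL_semiAut]
  exact ⟨orderOf_eq_prime (by rw [pow_two]; exact hu2) fun e => hmem (e ▸ one_mem _), hmem⟩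

/-- A subgroup invariant under one of two commuting such automorphisms and containing both fixed
point sets is everything. -/
theorem eq_top_of_fixed (hodd : Odd (Fintype.card F)) (h3 : 3 < Fintype.card F)
    {α β : MulAut (ProjectiveSpecialLinearGroup (Fin 2) F)} (hα : α * α = 1) (hβ : β * β = 1)
    (hne : α ≠ β) (hc : α * β = β * α) (hnα : ¬ FixesFour α) (hnβ : ¬ FixesFour β)
    {H : Subgroup (ProjectiveSpecialLinearGroup (Fin 2) F)} (hHα : ∀ x, α x = x → x ∈ H)
    (hHβ : ∀ x, β x = x → x ∈ H) (hinv : ∀ x ∈ H, α x ∈ H) : H = ⊤ := by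
  classical
  obtain ⟨p, hpc⟩ := CharP.exists F
  obtain ⟨f, hp', -⟩ := FiniteField.card F p
  haveI : Fact p.Prime := ⟨hp'⟩
  have hodd' : Fintype.card F % 2 = 1 := Nat.odd_iff.1 hodd
  have h2 := OuterTorus.index_sln_two (F := F) hodd'
  obtain ⟨A, rfl, hu⟩ := exists_outer hodd h3 hα hnα
  obtain ⟨B, rfl, hv⟩ := exists_outer hodd h3 hβ hnβ
  set u := ProjGenLinGroup.mk A with hudef
  set v := ProjGenLinGroup.mk B with hvdef
  have huv : u ≠ v := fun e => hne (mk_eq_semiAut e)
  have hcuv : Commute u v := by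
    show u * v = v * u
    rw [hudef, hvdef, ← map_mul, ← map_mul]
    exact semiAut_eq_mk (by rw [← refl_mul, ← refl_mul]; exact hc)
  set ι := ProjectiveSpecialLinearGroup.toPGL (n := Fin 2) (R := F)
  have hι : Function.Injective ι := ProjectiveSpecialLinearGroup.toPGL_injective
  set M := H.map ι with hM
  have hnorm : u ∈ Subgroup.normalizer (M : Set (ProjGenLinGroup (Fin 2) F)) := by
    refine Subgroup.mem_normalizer_iff_map_conj_eq.2 (Subgroup.eq_of_le_of_card_ge ?_
      (Subgroup.card_map_of_injective (MulAut.conj u).injective).ge)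
    rintro _ ⟨_, ⟨x, hx, rfl⟩, rfl⟩
    exact ⟨_, hinv x hx, toPGL_semiAut A x⟩
  set K := M ⊔ Subgroup.zpowers u with hK
  have huK : u ∈ K := Subgroup.mem_sup_right (Subgroup.mem_zpowers u)
  -- an element of `PSL` commuting with `u` or `v` is in `M`
  have hfix : ∀ (C : GL (Fin 2) F), (∀ x, semiAut C (RingEquiv.refl F) x = x → x ∈ H) →
      ∀ y ∈ sln F, Commute y (ProjGenLinGroup.mk C) → y ∈ M := by
    rintro C hC _ ⟨s, rfl⟩ hy
    refine ⟨(s : ProjectiveSpecialLinearGroup (Fin 2) F), hC _ (hι ?_), toPGL_mk' s⟩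
    rw [toPGL_semiAut, toPGL_mk', mul_inv_eq_iff_eq_mul]
    exact hy.eq.symm
  have hvK : v ∈ K := by
    have h1 : v * u ∈ M := hfix A hHα _ ((Subgroup.mul_mem_iff_of_index_two h2).2
      (iff_of_false hv.not_mem hu.not_mem)) ((hcuv.symm).mul_left (Commute.refl u))
    have h3' := mul_mem (Subgroup.mem_sup_left h1 : v * u ∈ K) (inv_mem huK)
    rwa [mul_inv_cancel_right] at h3'
  have hside : ∀ (C : GL (Fin 2) F), OuterTorus.Outer (ProjGenLinGroup.mk C) →
      ProjGenLinGroup.mk C ∈ K → (∀ x, semiAut C (RingEquiv.refl F) x = x → x ∈ H) →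
      pairStab p ⊤ (ProjGenLinGroup.mk C) ≤ K := by
    intro C hw hwK hC g hg
    have hgc := (OuterTorus.pairStab_iff hw hodd' h3).1 hg
    by_cases hgs : g ∈ sln F
    · exact Subgroup.mem_sup_left (hfix C hC g hgs hgc)
    · have h1 : g * ProjGenLinGroup.mk C ∈ M := hfix C hC _ ((Subgroup.mul_mem_iff_of_index_two h2).2
        (iff_of_false hgs hw.not_mem)) (hgc.mul_left (Commute.refl _))
      have h3' := mul_mem (Subgroup.mem_sup_left h1 : g * ProjGenLinGroup.mk C ∈ K) (inv_mem hwK)
      rwa [mul_inv_cancel_right] at h3'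
  have htop : K = ⊤ := OuterTorus.eq_top_of_two (p := p) hu hodd' h3 hv huv hcuv
    (hside A hu huK hHα) (hside B hv hvK hHβ)
  refine eq_top_iff.2 fun x _ => ?_
  have hxK : ι x ∈ (K : Set (ProjGenLinGroup (Fin 2) F)) := htop ▸ Subgroup.mem_top _
  rw [hK, Subgroup.coe_mul_of_right_le_normalizer_left M _ (Subgroup.zpowers_le.2 hnorm)] at hxK
  obtain ⟨m, hm, w, hw, e⟩ := hxK
  obtain ⟨i, rfl⟩ := hw
  have hui : u ^ i = 1 ∨ u ^ i = u := by
    rw [← zpow_mod_orderOf, hu.two]
    rcases (by omega : i % (2 : ℕ) = 0 ∨ i % (2 : ℕ) = 1) with h | h <;> rw [h] <;> simp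
  rcases hui with h | h <;> simp only [h] at e
  · rw [mul_one] at e
    obtain ⟨x', hx', rfl⟩ := hm
    exact hι e ▸ hx'
  · refine absurd ?_ hu.not_mem
    obtain ⟨x', hx', rfl⟩ := hm
    rw [← eq_inv_mul_iff_mul_eq] at e
    rw [e]
    exact mul_mem (inv_mem (toPGL_mem_sln x')) (toPGL_mem_sln x)

end Linear

/-- An element of order at most 2 of `S₇` commutes with an even four-group. -/
theorem exists_four_seven {s : Equiv.Perm (Fin 7)} (hs : s * s = 1) :
    ∃ v w : Equiv.Perm (Fin 7), Equiv.Perm.sign v = 1 ∧ Equiv.Perm.sign w = 1 ∧ v * v = 1 ∧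
      w * w = 1 ∧ v ≠ 1 ∧ w ≠ 1 ∧ v ≠ w ∧ v * w = w * v ∧ s * v = v * s ∧ s * w = w * s := by
  classical
  have conj : ∀ r c : Equiv.Perm (Fin 7), c * r * c⁻¹ = s → (∃ v w : Equiv.Perm (Fin 7),
      Equiv.Perm.sign v = 1 ∧ Equiv.Perm.sign w = 1 ∧ v * v = 1 ∧
      w * w = 1 ∧ v ≠ 1 ∧ w ≠ 1 ∧ v ≠ w ∧ v * w = w * v ∧ r * v = v * r ∧ r * w = w * r) →
    ∃ v w : Equiv.Perm (Fin 7), Equiv.Perm.sign v = 1 ∧ Equiv.Perm.sign w = 1 ∧ v * v = 1 ∧
      w * w = 1 ∧ v ≠ 1 ∧ w ≠ 1 ∧ v ≠ w ∧ v * w = w * v ∧ s * v = v * s ∧ s * w = w * s := by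
    rintro r c rfl ⟨v, w, hv, hw, hvv, hww, hv1, hw1, hne, hc, hrv, hrw⟩
    let f := MulAut.conj c
    refine ⟨f v, f w, by simp [f, hv], by simp [f, hw], by rw [← map_mul, hvv, map_one],
      by rw [← map_mul, hww, map_one], fun e => hv1 (f.injective (e.trans (map_one f).symm)),
      fun e => hw1 (f.injective (e.trans (map_one f).symm)), fun e => hne (f.injective e),
      by rw [← map_mul, hc, map_mul], ?_, ?_⟩
    · rw [show c * r * c⁻¹ = f r from rfl, ← map_mul, hrv, map_mul]
    · rw [show c * r * c⁻¹ = f r from rfl, ← map_mul, hrw, map_mul]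
  by_cases hs1 : s = 1
  · exact ⟨Equiv.swap 0 1 * Equiv.swap 2 3, Equiv.swap 0 2 * Equiv.swap 1 3, by decide +kernel,
      by decide +kernel, by decide +kernel, by decide +kernel, by decide +kernel, by decide +kernel,
      by decide +kernel, by decide +kernel, by simp [hs1], by simp [hs1]⟩
  have ho : orderOf s = 2 := orderOf_eq_prime (by rw [pow_two]; exact hs) hs1
  obtain ⟨n, hn⟩ := Equiv.Perm.cycleType_prime_order (σ := s) (by rw [ho]; exact Nat.prime_two)
  rw [ho] at hn
  have hle : n ≤ 2 := by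
    have h1 := s.sum_cycleType
    rw [hn, Multiset.sum_replicate] at h1
    have h2 := s.support.card_le_univ
    simp only [Fintype.card_fin, smul_eq_mul] at h1 h2
    omega
  have hconj : ∀ r : Equiv.Perm (Fin 7), r.cycleType = s.cycleType → ∃ c, c * r * c⁻¹ = s :=
    fun r hr => isConj_iff.1 (Equiv.Perm.isConj_iff_cycleType_eq.2 hr)
  interval_cases n
  · obtain ⟨c, hc⟩ := hconj (Equiv.swap 0 1) (by rw [hn]; decide +kernel)
    exact conj _ c hc ⟨Equiv.swap 2 3 * Equiv.swap 4 5, Equiv.swap 2 4 * Equiv.swap 3 5,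
      by decide +kernel⟩
  · obtain ⟨c, hc⟩ := hconj (Equiv.swap 0 1 * Equiv.swap 2 3) (by rw [hn]; decide +kernel)
    exact conj _ c hc ⟨Equiv.swap 0 1 * Equiv.swap 2 3, Equiv.swap 0 2 * Equiv.swap 1 3,
      by decide +kernel⟩
  · obtain ⟨c, hc⟩ := hconj (Equiv.swap 0 1 * Equiv.swap 2 3 * Equiv.swap 4 5)
      (by rw [hn]; decide +kernel)
    exact conj _ c hc ⟨Equiv.swap 0 1 * Equiv.swap 2 3, Equiv.swap 0 1 * Equiv.swap 4 5,
      by decide +kernel⟩

/-- Every involutory automorphism of `A₇` fixes a four-group. -/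
theorem fixesFour_seven {α : MulAut ↥(alternatingGroup (Fin 7))} (hα : α * α = 1) : FixesFour α := by
  have hb := Cfsg.Agent.S2119.result 7 (by norm_num) (by norm_num)
  obtain ⟨s, rfl⟩ := hb.2 α
  have hs : s * s = 1 := hb.1 (by rw [map_mul, hα, map_one])
  obtain ⟨v, w, hv, hw, hvv, hww, hv1, hw1, hne, hc, hsv, hsw⟩ := exists_four_seven hs
  refine ⟨⟨v, hv⟩, ⟨w, hw⟩, orderOf_eq_prime (by rw [pow_two]; exact Subtype.ext hvv)
      fun e => hv1 (congrArg Subtype.val e),
    orderOf_eq_prime (by rw [pow_two]; exact Subtype.ext hww) fun e => hw1 (congrArg Subtype.val e),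
    fun e => hne (congrArg Subtype.val e), Subtype.ext hc, Subtype.ext ?_, Subtype.ext ?_⟩
  · rw [MulAut.conjNormal_apply]; show s * v * s⁻¹ = v; rw [hsv, mul_inv_cancel_right]
  · rw [MulAut.conjNormal_apply]; show s * w * s⁻¹ = w; rw [hsw, mul_inv_cancel_right]

/-- A group with cyclic Sylow 2-subgroups has no two distinct commuting involutions. -/
theorem eq_of_commute {K : Type*} [Group K] [Finite K] (hcyc : ∀ R : Sylow 2 K, IsCyclic R) {v w : K}
    (hv : orderOf v = 2) (hw : orderOf w = 2) (hc : Commute v w) : v = w := by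
  haveI : Fact (Nat.Prime 2) := ⟨Nat.prime_two⟩
  by_contra hne
  have hvv := Involution.Dihedral.mul_self hv
  have hww := Involution.Dihedral.mul_self hw
  set T := Involution.TwoGroupLifts.fourGroup v w hvv hww hc.eq with hT
  haveI : IsKleinFour T := Involution.TwoGroupLifts.isKleinFour_of_four
    (Involution.Dihedral.ne_one hv) (Involution.Dihedral.ne_one hw) hne hvv hww hc.eq
    fun g => Involution.TwoGroupLifts.mem_fourGroup
  obtain ⟨R, hR⟩ := (IsPGroup.of_card (n := 2) (by rw [IsKleinFour.card_four]; norm_num) :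
    IsPGroup 2 ↥T).exists_le_sylow
  haveI := hcyc R
  exact IsKleinFour.not_isCyclic (Subgroup.isCyclic_of_le hR)

/-- The theorem, from the classification of simple groups with dihedral Sylow 2-subgroups. -/
theorem commute_of_cyclic_centralizers (hGW : SimpleDihedral.{u}) {G : Type u} [Group G] [Finite G]
    (L : Subgroup G) (hL : IsSimpleGroup L) (hLn : ¬ IsMulCommutative L)
    (hD : ∀ P : Sylow 2 L, ∃ n : ℕ, Nonempty (↥(P : Subgroup L) ≃* DihedralGroup n))
    (a b : G) (ha : orderOf a = 2) (hb : orderOf b = 2) (hc : a * b = b * a)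
    (haL : a ∈ Subgroup.normalizer (L : Set G)) (hbL : b ∈ Subgroup.normalizer (L : Set G))
    (hCa : ∀ R : Sylow 2 ↥(L ⊓ Subgroup.centralizer ({a} : Set G)), IsCyclic R)
    (hCb : ∀ R : Sylow 2 ↥(L ⊓ Subgroup.centralizer ({b} : Set G)), IsCyclic R)
    (hgen : ¬ L ≤ Subgroup.closure ({a, b} : Set G) ⊔ (L ⊓ Subgroup.centralizer ({a} : Set G)) ⊔
      (L ⊓ Subgroup.centralizer ({b} : Set G))) :
    a * b ∈ Subgroup.centralizer (L : Set G) := by
  haveI := hL
  haveI : Fact (Nat.Prime 2) := ⟨Nat.prime_two⟩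
  set α : MulAut L := L.normalizerMonoidHom ⟨a, haL⟩ with hα
  set β : MulAut L := L.normalizerMonoidHom ⟨b, hbL⟩ with hβ
  have hαv : ∀ x : L, ((α x : L) : G) = a * x * a⁻¹ := fun x => rfl
  have hβv : ∀ x : L, ((β x : L) : G) = b * x * b⁻¹ := fun x => rfl
  have hα2 : α * α = 1 := by
    rw [hα, ← map_mul, show (⟨a, haL⟩ : Subgroup.normalizer (L : Set G)) * ⟨a, haL⟩ = 1 from
      Subtype.ext (Involution.Dihedral.mul_self ha), map_one]
  have hβ2 : β * β = 1 := by
    rw [hβ, ← map_mul, show (⟨b, hbL⟩ : Subgroup.normalizer (L : Set G)) * ⟨b, hbL⟩ = 1 from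
      Subtype.ext (Involution.Dihedral.mul_self hb), map_one]
  have hαβ : α * β = β * α := by
    rw [hα, hβ, ← map_mul, ← map_mul]
    exact congrArg _ (Subtype.ext hc)
  by_cases heq : α = β
  · refine Subgroup.mem_centralizer_iff.2 fun x hx => ?_
    have h := congrArg Subtype.val (DFunLike.congr_fun heq ⟨x, hx⟩)
    rw [hαv, hβv] at h
    simp only at h
    calc x * (a * b) = a * (a⁻¹ * x * a) * b := by group
      _ = a * (a * x * a⁻¹) * b := by
        rw [inv_eq_of_mul_eq_one_right (Involution.Dihedral.mul_self ha)]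
      _ = a * (b * x * b⁻¹) * b := by rw [h]
      _ = a * b * x := by group
  exfalso
  have hno : ∀ (c : G) (hcL : c ∈ Subgroup.normalizer (L : Set G)),
      (∀ R : Sylow 2 ↥(L ⊓ Subgroup.centralizer ({c} : Set G)), IsCyclic R) →
      ¬ FixesFour (L.normalizerMonoidHom ⟨c, hcL⟩) := by
    rintro c hcL hcyc ⟨v, w, hv, hw, hne, hvw, hfv, hfw⟩
    have hmem : ∀ y : L, L.normalizerMonoidHom ⟨c, hcL⟩ y = y →
        (y : G) ∈ L ⊓ Subgroup.centralizer ({c} : Set G) := fun y hy =>
      ⟨y.2, Subgroup.mem_centralizer_singleton_iff.2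
        (mul_inv_eq_iff_eq_mul.1 (congrArg Subtype.val hy)).symm⟩
    have h := eq_of_commute hcyc (v := ⟨v, hmem v hfv⟩) (w := ⟨w, hmem w hfw⟩)
      (by rw [← Subgroup.orderOf_coe]; simpa using hv) (by rw [← Subgroup.orderOf_coe]; simpa using hw)
      (Subtype.ext (congrArg Subtype.val hvw.eq :))
    exact hne (Subtype.ext (congrArg (fun y : ↥(L ⊓ Subgroup.centralizer ({c} : Set G)) => (y : G)) h))
  obtain ⟨P⟩ : Nonempty (Sylow 2 L) := inferInstance
  obtain ⟨n, ⟨eP⟩⟩ := hD P
  have hns : ¬ Group.IsSolvable L := fun h => hLn ⟨⟨IsSimpleGroup.comm_iff_isSolvable.2 h⟩⟩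
  have hn : 2 ≤ n := by
    have hcard := Nat.card_congr eP.toEquiv
    rw [DihedralGroup.nat_card] at hcard
    have hpos := Nat.card_pos (α := (P : Subgroup L))
    by_contra hn
    obtain rfl : n = 1 := by omega
    haveI : IsCyclic (DihedralGroup 1) := DihedralGroup.isCyclic_iff.2 rfl
    exact CfsgLib.Characterizations.DGroup.not_isCyclic_sylow hns P
      (isCyclic_of_surjective eP.symm.toMonoidHom eP.symm.surjective)
  rcases hGW ↥L hLn P n hn ⟨eP⟩ with ⟨F, _, _, hodd, h3, ⟨e⟩⟩ | ⟨⟨e⟩⟩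
  · set J := Subgroup.closure ({a, b} : Set G) ⊔ (L ⊓ Subgroup.centralizer ({a} : Set G)) ⊔
      (L ⊓ Subgroup.centralizer ({b} : Set G)) with hJ
    have htop := eq_top_of_fixed hodd h3 (α := (e.symm.trans α).trans e)
      (β := (e.symm.trans β).trans e) (H := (J.subgroupOf L).map e.toMonoidHom)
      (MulEquiv.ext fun x => by
        have := DFunLike.congr_fun hα2 (e.symm x)
        simp only [MulAut.mul_apply, MulAut.one_apply] at this
        simp [MulAut.mul_apply, this])
      (MulEquiv.ext fun x => by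
        have := DFunLike.congr_fun hβ2 (e.symm x)
        simp only [MulAut.mul_apply, MulAut.one_apply] at this
        simp [MulAut.mul_apply, this])
      (fun h => heq (MulEquiv.ext fun x => e.injective (by simpa using DFunLike.congr_fun h (e x))))
      (MulEquiv.ext fun x => by
        have := DFunLike.congr_fun hαβ (e.symm x)
        simp only [MulAut.mul_apply] at this
        simp [MulAut.mul_apply, this])
      (fun h => hno a haL hCa (fixesFour_congr e h)) (fun h => hno b hbL hCb (fixesFour_congr e h))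
      (fun x hx => ⟨e.symm x, Subgroup.mem_subgroupOf.2 (Subgroup.mem_sup_left (Subgroup.mem_sup_right
        ⟨(e.symm x).2, Subgroup.mem_centralizer_singleton_iff.2 (mul_inv_eq_iff_eq_mul.1
          ((hαv _).symm.trans (congrArg Subtype.val
            (e.injective (by simpa using hx) : α (e.symm x) = e.symm x)))).symm⟩)),
        e.apply_symm_apply x⟩)
      (fun x hx => ⟨e.symm x, Subgroup.mem_subgroupOf.2 (Subgroup.mem_sup_right
        ⟨(e.symm x).2, Subgroup.mem_centralizer_singleton_iff.2 (mul_inv_eq_iff_eq_mul.1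
          ((hβv _).symm.trans (congrArg Subtype.val
            (e.injective (by simpa using hx) : β (e.symm x) = e.symm x)))).symm⟩),
        e.apply_symm_apply x⟩)
      (by
        rintro _ ⟨y, hy, rfl⟩
        refine ⟨α y, ?_, by simp⟩
        have haJ : a ∈ J := Subgroup.mem_sup_left (Subgroup.mem_sup_left
          (Subgroup.subset_closure (Set.mem_insert _ _)))
        exact Subgroup.mem_subgroupOf.2
          (mul_mem (mul_mem haJ (Subgroup.mem_subgroupOf.1 hy)) (inv_mem haJ)))
    refine hgen fun x hx => ?_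
    have hmem : e ⟨x, hx⟩ ∈ (J.subgroupOf L).map e.toMonoidHom := htop ▸ Subgroup.mem_top _
    obtain ⟨y, hy, he⟩ := hmem
    obtain rfl : y = ⟨x, hx⟩ := e.injective he
    exact Subgroup.mem_subgroupOf.1 hy
  · refine hno a haL hCa (fixesFour_congr e (fixesFour_seven (MulEquiv.ext fun x => ?_)))
    have := DFunLike.congr_fun hα2 (e.symm x)
    simp only [MulAut.mul_apply, MulAut.one_apply] at this
    simp only [← hα]
    simp [MulAut.mul_apply, this]

end CfsgLib.GWDihedral.TwoInvolutions
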