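import Cfsg.Agent.Lib.GWDihedral.Consumers.CentralCover
import Cfsg.Agent.Lib.GWDihedral.Consumers.TwoGenerated
import Cfsg.Prelude.Def_CaseTheorems

/-!
# No double cover of `A₇` inside a quasi-dihedral or wreathed Sylow 2-subgroup

A double cover of `A₇` that is a normal subgroup of index a power of two gives a map to `S₇`, in
which no 2-element has order eight.
-/

set_option autoImplicit false
set_option linter.style.haveILetI false
set_option linter.unusedSectionVars false

namespace CfsgLib.GWDihedral.Consumers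

open Subgroup CfsgLib.Involution Equiv

universe u

/-- A 2-element of `S₇` has order at most four. -/
theorem pow_four_of_two_element {g : Perm (Fin 7)} {j : ℕ} (h : g ^ 2 ^ j = 1) : g ^ 4 = 1 := by
  rw [← orderOf_dvd_iff_pow_eq_one, ← Perm.lcm_cycleType, Multiset.lcm_dvd]
  intro b hb
  have h1 : b ≤ 7 := by
    refine (Perm.le_card_support_of_mem_cycleType hb).trans ((Finset.card_le_univ _).trans_eq ?_)
    rw [Fintype.card_fin]
  have h2 : b ∣ 2 ^ j := (Perm.dvd_of_mem_cycleType hb).trans (orderOf_dvd_of_pow_eq_one h)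
  obtain ⟨i, -, rfl⟩ := (Nat.dvd_prime_pow Nat.prime_two).1 h2
  have h3 : i ≤ 2 := by
    by_contra hi
    have := (Nat.pow_le_pow_right two_pos (show 3 ≤ i by omega)).trans h1
    norm_num at this
  exact (pow_dvd_pow 2 h3).trans (by norm_num)

/-- In a quaternion group of order sixteen only elements of order at most two are central. -/
theorem quaternion_four_center :
    ∀ v : QuaternionGroup 4, (∀ w, v * w = w * v) → v * v = 1 := by decide +kernel

/-- An element of a subgroup of index two in a 2-group. -/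
theorem mul_mem_of_half {S : Type*} [Group S] [Finite S] (A : Subgroup S) (h : 2 * Nat.card A = Nat.card S)
    {s t : S} (hs : s ∉ A) (ht : t ∉ A) : s * t ∈ A := by
  have hi : A.index = 2 := by
    have h1 := card_mul_index A
    rw [← h] at h1
    have h2 : 0 < Nat.card A := Nat.card_pos
    exact Nat.eq_of_mul_eq_mul_left h2 (h1.trans (mul_comm _ _))
  exact (mul_mem_iff_of_index_two hi).2 (iff_of_false hs ht)

variable {H : Type u} [Group H] [Finite H]

/-- The exclusion of the double cover of `A₇`. -/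
theorem not_seven (S : Sylow 2 H)
    (hS : Cfsg.IsQuasiDihedral (S : Subgroup H) ∨ Cfsg.IsWreathed (S : Subgroup H))
    (K : Subgroup H) [hKn : K.Normal] (hperf : commutator ↥K = ⊤) (hZ : Nat.card (center ↥K) = 2)
    (hQ : ∀ P : Sylow 2 ↥K, ∃ n : ℕ, Nonempty (↥(P : Subgroup ↥K) ≃* QuaternionGroup (2 ^ (n + 1))))
    (eA : ↥K ⧸ center ↥K ≃* ↥(alternatingGroup (Fin 7))) : False := by
  classical
  haveI : Fact (Nat.Prime 2) := ⟨Nat.prime_two⟩
  set Z := (center ↥K).map K.subtype with hZdef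
  haveI hZn : Z.Normal := inferInstance
  have hZc : ∀ v ∈ Z, ∀ g : H, v * g = g * v := by
    intro v hv g
    have hcard : Nat.card Z = 2 := by rw [hZdef, card_map_of_injective K.subtype_injective, hZ]
    by_cases hv1 : v = 1
    · rw [hv1, one_mul, mul_one]
    have hw : g * v * g⁻¹ ∈ Z := hZn.conj_mem v hv g
    haveI : Fact (Nat.card Z).Prime := ⟨by rw [hcard]; exact Nat.prime_two⟩
    obtain ⟨i, hi⟩ := mem_zpowers_of_prime_card (g := (⟨v, hv⟩ : Z)) (g' := ⟨g * v * g⁻¹, hw⟩) rfl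
      (fun h => hv1 (congrArg Subtype.val h))
    have hi' : v ^ i = g * v * g⁻¹ := congrArg Subtype.val hi
    have hv2 : v ^ (2 : ℤ) = 1 := by
      have h : (⟨v, hv⟩ : Z) ^ 2 = 1 := hcard ▸ pow_card_eq_one'
      rw [← Nat.cast_ofNat, zpow_natCast]
      exact congrArg Subtype.val h
    rcases Int.even_or_odd i with ⟨l, rfl⟩ | ⟨l, rfl⟩
    · rw [← two_mul, zpow_mul, hv2, one_zpow] at hi'
      exact absurd (conj_eq_one_iff.1 hi'.symm) hv1
    · rw [zpow_add, zpow_mul, hv2, one_zpow, one_mul, zpow_one] at hi'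
      exact (eq_mul_inv_iff_mul_eq.1 hi')
  set π := QuotientGroup.mk' Z with hπ
  haveI hNn : (K.map π).Normal := hKn.map π (QuotientGroup.mk'_surjective _)
  have hgk : (π.subgroupMap K).ker = center ↥K := by
    ext x
    rw [MonoidHom.mem_ker, Subtype.ext_iff]
    show π (x : H) = 1 ↔ _
    rw [hπ, QuotientGroup.mk'_apply, QuotientGroup.eq_one_iff]
    exact mem_map_iff_mem K.subtype_injective
  let eN : ↥(K.map π) ≃* ↥(alternatingGroup (Fin 7)) :=
    ((QuotientGroup.quotientKerEquivOfSurjective _ (π.subgroupMap_surjective K)).symm.trans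
      (QuotientGroup.quotientMulEquivOfEq hgk)).trans eA
  let ψ := MulEquiv.ofBijective _ (Cfsg.Agent.S2119.result 7 (by norm_num) (by norm_num))
  let f : H →* Perm (Fin 7) :=
    ψ.symm.toMonoidHom.comp ((MulAut.congr eN).toMonoidHom.comp ((MulAut.conjNormal : H ⧸ Z →* _).comp π))
  have hker : ∀ c ∈ f.ker, ∀ l ∈ K, Commute l c := by
    intro c hc
    have h1 : (MulAut.conjNormal (π c) : MulAut ↥(K.map π)) = 1 :=
      (MulAut.congr eN).injective (ψ.symm.injective (by rw [map_one, map_one]; exact hc))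
    refine commute_of_perfect hperf fun l hl g => hZc _ ?_ g
    have h2 := congrArg (fun φ : MulAut ↥(K.map π) => ((φ ⟨π l, l, hl, rfl⟩ : ↥(K.map π)) : H ⧸ Z)) h1
    simp only [MulAut.conjNormal_apply, MulAut.one_apply] at h2
    rw [← QuotientGroup.eq_one_iff]
    show π (c⁻¹ * (l * c * l⁻¹)) = 1
    rw [map_mul, map_mul, map_mul, map_inv, map_inv,
      show π l * π c = π c * π l from (mul_inv_eq_iff_eq_mul.1 h2).symm]
    group
  have hfour : ∀ s ∈ (S : Subgroup H), s ^ 4 ∈ f.ker := by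
    intro s hs
    obtain ⟨j, hj⟩ := S.2 ⟨s, hs⟩
    have hj' : s ^ 2 ^ j = 1 := congrArg Subtype.val hj
    rw [MonoidHom.mem_ker, map_pow]
    exact pow_four_of_two_element (j := j) (by rw [← map_pow, hj', map_one])
  -- the Sylow subgroup of the cover
  obtain ⟨P, hP⟩ := CfsgLib.NT.SylowCount.exists_sylow_inf S K
  obtain ⟨n, ⟨e⟩⟩ := hQ P
  have hK : Nat.card ↥K = 5040 := by
    rw [card_eq_card_quotient_mul_card_subgroup (center ↥K), Nat.card_congr eA.toEquiv, hZ,
      nat_card_alternatingGroup, Nat.card_fin]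
    rfl
  have hPc : Nat.card P = 4 * 2 ^ (n + 1) := by
    haveI : NeZero (2 ^ (n + 1)) := ⟨by positivity⟩
    rw [Nat.card_congr e.toEquiv, Nat.card_eq_fintype_card, QuaternionGroup.card]
  obtain rfl : n = 1 := by
    have h1 : 2 ^ 4 ∣ Nat.card P := P.pow_dvd_card_of_pow_dvd_card (by rw [hK]; norm_num)
    have h2 : Nat.card P ∣ 5040 := hK ▸ card_subgroup_dvd_card _
    rw [hPc] at h1 h2
    rcases n with _ | _ | n
    · norm_num at h1
    · rfl
    · exfalso
      have : 32 ∣ 5040 := dvd_trans ⟨2 ^ n, by ring⟩ h2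
      norm_num at this
  have hPS : ∀ v : ↥(P : Subgroup ↥K), ((v : ↥K) : H) ∈ (S : Subgroup H) := fun v =>
    (hP.le ⟨v, v.2, rfl⟩).1
  -- `SS` is the Sylow subgroup as a group
  let ι : QuaternionGroup (2 ^ (1 + 1)) →* ↥(S : Subgroup H) :=
    { toFun := fun w => ⟨((e.symm w : ↥K) : H), hPS (e.symm w)⟩
      map_one' := Subtype.ext (by simp)
      map_mul' := fun v w => Subtype.ext (by simp) }
  have hι : Function.Injective ι := fun v w h =>
    e.symm.injective (Subtype.ext (Subtype.ext (congrArg (fun x : ↥(S : Subgroup H) => (x : H)) h)))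
  have hcom : ∀ (s : ↥(S : Subgroup H)) w, Commute (s ^ 4) (ι w) := fun s w => by
    have := hker _ (hfour s s.2) _ (show ((e.symm w : ↥K) : H) ∈ K from (e.symm w : ↥K).2)
    exact Subtype.ext (by simpa [ι] using this.symm.eq)
  have hSu : ∀ v : QuaternionGroup (2 ^ (1 + 1)), orderOf (ι v) = orderOf v := fun v => orderOf_injective ι hι v
  have hu : orderOf (ι (QuaternionGroup.a 1)) = 8 := by
    rw [hSu, QuaternionGroup.orderOf_a_one]
    norm_num
  -- the common argument
  have key : ∀ A : Subgroup ↥(S : Subgroup H), IsMulCommutative A → 2 * Nat.card A = Nat.card ↥(S : Subgroup H) →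
      ∀ w ∉ A, (∀ x ∈ A, Commute (x ^ 4) w) ∧ ((∀ x ∈ A, x ^ 4 = 1) → False) := by
    intro A hA hcard w hw
    have hAc : ∀ x ∈ A, ∀ y ∈ A, Commute x y := fun x hx y hy =>
      congrArg Subtype.val (hA.is_comm.comm ⟨x, hx⟩ ⟨y, hy⟩)
    obtain ⟨v, hv⟩ : ∃ v, ι v ∉ A := by
      by_contra hall
      push Not at hall
      have h1 : (QuaternionGroup.a 1 : QuaternionGroup (2 ^ (1 + 1))) * QuaternionGroup.xa 0 =
          QuaternionGroup.xa 0 * QuaternionGroup.a 1 :=
        hι (by rw [map_mul, map_mul]; exact (hAc _ (hall _) _ (hall _)).eq)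
      exact absurd h1 (by decide)
    refine ⟨fun x hx => ?_, fun h4 => ?_⟩
    · have h1 : (ι v)⁻¹ * w ∈ A :=
        mul_mem_of_half A hcard (fun h => hv (A.inv_mem_iff.1 h)) hw
      have h2 := ((hcom x v).mul_right (hAc _ (A.pow_mem hx 4) _ h1))
      rwa [mul_inv_cancel_left] at h2
    · have hu' : ι (QuaternionGroup.a 1) ∉ A := fun hmem => by
        have h1 := Nat.le_of_dvd (by norm_num) (orderOf_dvd_of_pow_eq_one (h4 _ hmem))
        omega
      have hsq : ι (QuaternionGroup.a 1) * ι (QuaternionGroup.a 1) ∈ A := mul_mem_of_half A hcard hu' hu'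
      have hcen : ∀ s, Commute (ι (QuaternionGroup.a 1) * ι (QuaternionGroup.a 1)) s := fun s => by
        by_cases hs : s ∈ A
        · exact hAc _ hsq _ hs
        · have h1 := mul_mem_of_half A hcard (fun h => hu' (A.inv_mem_iff.1 h)) hs
          have h2 := (((Commute.refl (ι (QuaternionGroup.a 1))).mul_left (Commute.refl _))).mul_right (hAc _ hsq _ h1)
          rwa [mul_inv_cancel_left] at h2
      have h3 := quaternion_four_center (QuaternionGroup.a 1 * QuaternionGroup.a 1) fun w' =>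
        hι (by simp only [map_mul]; exact (hcen (ι w')).eq)
      exact absurd h3 (by decide)
  rcases hS with ⟨m, hm, hc, x, y, hx, hy, hxy⟩ | ⟨m, hm, hc, x, y, z, hx, hxy, hd, hz, hzxy⟩
  · have hA : 2 * Nat.card (zpowers x) = Nat.card ↥(S : Subgroup H) := by
      rw [Nat.card_zpowers, hx, hc, pow_succ, mul_comm]
    have hyA : y ∉ zpowers x := fun hmem => by
      obtain ⟨i, hi⟩ := mem_zpowers_iff.1 hmem
      rw [← hi, Commute.zpow_self x i |>.eq, mul_inv_cancel_right] at hxy
      have h1 : x ^ (((2 ^ (m - 1) - 1 : ℕ) : ℤ) - 1) = 1 := by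
        rw [zpow_sub_one, zpow_natCast, ← hxy, mul_inv_cancel]
      rw [← orderOf_dvd_iff_zpow_eq_one, hx] at h1
      have h4 : 4 ≤ 2 ^ (m - 1) := (Nat.pow_le_pow_right two_pos (show 2 ≤ m - 1 by omega))
      have h2 : (0 : ℤ) < ((2 ^ (m - 1) - 1 : ℕ) : ℤ) - 1 := by omega
      have h3 := Int.le_of_dvd h2 h1
      have h5 : 2 ^ (m - 1) < 2 ^ m := Nat.pow_lt_pow_right one_lt_two (by omega)
      omega
    obtain ⟨h1, -⟩ := key (zpowers x) inferInstance hA y hyA
    have h2 := h1 x (mem_zpowers x)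
    have h3 : (x ^ (2 ^ (m - 1) - 1)) ^ 4 = x ^ 4 := by
      rw [← hxy, conj_pow, ← h2.eq, mul_inv_cancel_right]
    have h4 : x ^ (((2 ^ (m - 1) - 1 : ℕ) : ℤ) * 4 - 4) = 1 := by
      rw [zpow_sub, zpow_mul, zpow_natCast, show ((4 : ℤ)) = ((4 : ℕ) : ℤ) from rfl, zpow_natCast, zpow_natCast, h3,
        mul_inv_cancel]
    rw [← orderOf_dvd_iff_zpow_eq_one, hx] at h4
    obtain ⟨m', rfl⟩ : ∃ m', m = m' + 3 := ⟨m - 3, by omega⟩
    have h5 : ((2 : ℤ) ^ (m' + 3)) ∣ 8 * (2 ^ (m' + 1) - 1) := by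
      have e1 : (((2 ^ (m' + 3 - 1) - 1 : ℕ) : ℤ) * 4 - 4) = 8 * ((2 : ℤ) ^ (m' + 1) - 1) := by
        rw [Nat.cast_sub Nat.one_le_two_pow, show m' + 3 - 1 = m' + 1 + 1 by omega]
        push_cast
        ring
      rw [e1] at h4
      exact_mod_cast h4
    rw [show ((2 : ℤ) ^ (m' + 3)) = 8 * 2 ^ m' by ring] at h5
    have h6 : (2 : ℤ) ^ m' ∣ 2 ^ (m' + 1) - 1 := (mul_dvd_mul_iff_left (by norm_num)).1 h5
    have h7 : (2 : ℤ) ^ m' ∣ 1 := by
      have := dvd_sub (pow_dvd_pow (2 : ℤ) (Nat.le_succ m')) h6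
      simpa using this
    obtain rfl : m' = 0 := by
      by_contra h0
      have h8 := Int.le_of_dvd one_pos h7
      have h9 : (2 : ℤ) ≤ 2 ^ m' := le_self_pow₀ (by norm_num) h0
      omega
    -- the Sylow subgroup would be the quaternion group
    have hSc : Nat.card ↥(S : Subgroup H) = 16 := by rw [hc]; norm_num
    have hsurj : Function.Surjective ι := by
      haveI : NeZero (2 ^ (1 + 1)) := ⟨by positivity⟩
      refine ((Nat.bijective_iff_injective_and_card ι).2 ⟨hι, ?_⟩).2
      rw [hSc, Nat.card_eq_fintype_card, QuaternionGroup.card]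
      rfl
    obtain ⟨vy, rfl⟩ := hsurj y
    obtain ⟨vx, hvx⟩ := hsurj (x ^ 4)
    have hx4 : orderOf (x ^ 4) = 2 := by
      rw [orderOf_pow_of_dvd (by norm_num) (by rw [hx]; norm_num), hx]
      norm_num
    rw [hSu] at hy
    rw [← hvx, hSu] at hx4
    obtain ⟨hsub, -⟩ := Nat.card_eq_one_iff_unique.1 (Cfsg.Agent.S0218.result 1)
    have heq : vy = vx := congrArg Subtype.val (hsub.elim ⟨vy, hy⟩ ⟨vx, hx4⟩)
    exact hyA (by rw [heq, hvx]; exact (zpowers x).pow_mem (mem_zpowers x) 4)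
  · have hy : orderOf y = 2 ^ m := by
      rw [← hzxy, ← hx]
      exact (MulAut.conj z).orderOf_eq x
    set A := zpowers x ⊔ zpowers y with hAdef
    have hnorm : zpowers y ≤ normalizer ((zpowers x : Subgroup ↥(S : Subgroup H)) : Set ↥(S : Subgroup H)) := by
      refine zpowers_le.2 (centralizer_le_normalizer _ (mem_centralizer_iff.2 fun v hv => ?_))
      obtain ⟨i, rfl⟩ := mem_zpowers_iff.1 hv
      exact ((show Commute x y from hxy).zpow_left i).eq
    have hAmem : ∀ v ∈ A, ∃ i j : ℤ, v = x ^ i * y ^ j := fun v hv => by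
      obtain ⟨p, hp, q, hq, rfl⟩ := (CfsgLib.Coprime.mem_sup_of_le_normalizer hnorm).1 hv
      obtain ⟨i, rfl⟩ := mem_zpowers_iff.1 hp
      obtain ⟨j, rfl⟩ := mem_zpowers_iff.1 hq
      exact ⟨i, j, rfl⟩
    have hAc : IsMulCommutative A := ⟨⟨fun p q => Subtype.ext (by
      obtain ⟨i, j, hi⟩ := hAmem p p.2
      obtain ⟨i', j', hi'⟩ := hAmem q q.2
      show (p : ↥(S : Subgroup H)) * q = q * p
      rw [hi, hi']
      have c : Commute x y := hxy
      exact ((((Commute.refl x).zpow_zpow i i').mul_right (c.zpow_zpow i j')).mul_left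
        (((c.symm.zpow_zpow j i')).mul_right ((Commute.refl y).zpow_zpow j j'))).eq)⟩⟩
    have hA : 2 * Nat.card A = Nat.card ↥(S : Subgroup H) := by
      rw [hAdef, CfsgLib.Coprime.card_sup_of_le_normalizer hnorm (disjoint_iff.2 hd), Nat.card_zpowers,
        Nat.card_zpowers, hx, hy, hc]
      ring
    have hx1 : x ≠ 1 := fun h => by
      rw [h, orderOf_one] at hx
      have := Nat.le_self_pow (show m ≠ 0 by omega) 2
      omega
    have hzA : z ∉ A := fun hmem => by
      have h1 : z * x = x * z := congrArg Subtype.val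
        (hAc.is_comm.comm ⟨z, hmem⟩ ⟨x, mem_sup_left (mem_zpowers x)⟩)
      have h2 : x ∈ zpowers x ⊓ zpowers y := by
        refine ⟨mem_zpowers x, ?_⟩
        rw [← hzxy, h1, mul_inv_cancel_right]
        exact mem_zpowers x
      rw [hd, mem_bot] at h2
      exact hx1 h2
    obtain ⟨h1, h2⟩ := key A hAc hA z hzA
    have h3 : x ^ 4 = y ^ 4 := by
      rw [← hzxy, conj_pow, ← (h1 x (mem_sup_left (mem_zpowers x))).eq, mul_inv_cancel_right]
    have h4 : x ^ 4 = 1 := by
      rw [← mem_bot, ← hd]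
      exact ⟨pow_mem (mem_zpowers x) 4, h3 ▸ pow_mem (mem_zpowers y) 4⟩
    refine h2 fun v hv => ?_
    obtain ⟨i, j, rfl⟩ := hAmem v hv
    have hy4 : y ^ 4 = 1 := h3 ▸ h4
    rw [((show Commute x y from hxy).zpow_zpow i j).mul_pow, ← zpow_natCast, ← zpow_natCast, ← zpow_mul,
      ← zpow_mul, mul_comm i, mul_comm j, zpow_mul, zpow_mul, zpow_natCast, zpow_natCast, h4, hy4, one_zpow,
      one_zpow, mul_one]

end CfsgLib.GWDihedral.Consumers
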